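import Cfsg.Agent.Lib.PermGp.LivWag.FiveSet
import Cfsg.Agent.Lib.Basics.CoprimeGen

/-! Homogeneous groups inducing only even permutations on the small sets. -/

set_option autoImplicit false
set_option linter.unusedSectionVars false

set_option linter.unusedSimpArgs false

namespace Cfsg.Agent.PermGp.LivWag

open MulAction Equiv

variable {α : Type*} [Fintype α] [DecidableEq α] {G : Subgroup (Perm α)} {m : ℕ}

/-- `G` moves every `j`-set onto every other one. -/
def Homog (G : Subgroup (Perm α)) (j : ℕ) : Prop :=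
  ∀ A B : Finset α, A.card = j → B.card = j → ∃ g ∈ G, ∀ x ∈ A, g x ∈ B

theorem restrict_perm {R : Finset α} {g : Perm α} (h : ∀ x ∈ R, g x ∈ R) :
    ∃ σ : Perm α, σ.support ⊆ R ∧ Agree R g σ := by
  let f : R → R := fun x => ⟨g x, h x x.2⟩
  have hf : Function.Bijective f :=
    Finite.injective_iff_bijective.mp fun x y e => Subtype.ext (g.injective (congrArg Subtype.val e))
  refine ⟨Perm.ofSubtype (Equiv.ofBijective f hf), fun x hx => ?_, fun x hx => ?_⟩
  · by_contra hxR
    exact (Perm.mem_support.mp hx) (Perm.ofSubtype_apply_of_not_mem _ hxR)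
  · rw [Perm.ofSubtype_apply_of_mem _ hx]
    rfl

theorem odd_card_fixed {s : Finset α} {c : Perm α} (hc : c * c = 1) (hs : ∀ x ∈ s, c x ∈ s)
    (hodd : Odd s.card) : Odd (s.filter fun x => c x = x).card := by
  obtain ⟨σ, hσ, ha⟩ := restrict_perm hs
  have h2 : σ * σ = 1 := by
    ext x
    by_cases hx : x ∈ s
    · have := ha.mul hσ ha x hx
      rw [hc] at this
      exact this.symm
    · have h0 : σ x = x := by
        by_contra h
        exact hx (hσ (Perm.mem_support.mpr h))
      rw [Perm.mul_apply, h0, h0, Perm.one_apply]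
  have h1 := Perm.two_dvd_card_support (σ := σ) (by rw [pow_two, h2])
  have h3 : (s.filter fun x => ¬ c x = x) = σ.support := by
    ext x
    rw [Finset.mem_filter, Perm.mem_support]
    by_cases hx : x ∈ s
    · simp [hx, ha x hx]
    · have h0 : σ x = x := by
        by_contra h
        exact hx (hσ (Perm.mem_support.mpr h))
      simp [hx, h0]
  have h4 := Finset.card_filter_add_card_filter_not (s := s) (fun x => c x = x)
  rw [h3] at h4
  rw [Nat.odd_iff] at hodd ⊢
  omega

/-- If all `(m+1)`-sets induce exactly their alternating groups then `n ≤ m + 2`. -/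
theorem card_le_of_only_even (ht : IsMultiplyPretransitive G α m) (hm : 4 ≤ m)
    (hn : m + 1 ≤ Fintype.card α) (hh : Homog G (m + 1))
    (halt : ∀ Δ : Finset α, Δ.card = m + 1 → AltSet G Δ)
    (hbad : ∀ Δ : Finset α, Δ.card = m + 1 → ∀ σ : Perm α, σ.support ⊆ Δ → Induces G Δ σ →
      Perm.sign σ = 1) :
    Fintype.card α ≤ m + 2 := by
  classical
  obtain ⟨R, -, hR⟩ := Finset.exists_subset_card_eq (s := (Finset.univ : Finset α)) (n := m)
    (by rw [Finset.card_univ]; omega)
  have hlift : ∀ σ : Perm α, Induces G R σ := exists_lift ht (by omega) hR.le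
  have noinv : ∀ z ∈ G, ∀ p, z * z = 1 → z p ≠ p → ∀ T : Finset α, T.card + 1 = m →
      (∀ x ∈ T, z x = x) → False := by
    intro z hz p hz2 hp T hT hfix
    have hzp : z (z p) = p := by rw [← Perm.mul_apply, hz2, Perm.one_apply]
    have h1 : p ∉ T := fun h => hp (hfix p h)
    have h2 : z p ∉ T := fun h => hp (z.injective (hfix _ h))
    have hc : (insert p (insert (z p) T)).card = m + 1 := by
      rw [Finset.card_insert_of_notMem (by simp [hp.symm, h1]), Finset.card_insert_of_notMem h2]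
      omega
    have := hbad _ hc (swap p (z p)) (support_swap_subset (Finset.mem_insert_self _ _)
      (Finset.mem_insert_of_mem (Finset.mem_insert_self _ _))) ⟨z, hz, fun x hx => by
        simp only [Finset.mem_insert] at hx
        rcases hx with rfl | rfl | hx
        · rw [swap_apply_left]
        · rw [hzp, swap_apply_right]
        · rw [hfix x hx, swap_apply_of_ne_of_ne (fun e => h1 (by rw [← e]; exact hx)) (fun e => h2 (by rw [← e]; exact hx))]⟩
    rw [Perm.sign_swap hp.symm] at this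
    exact absurd this (by decide)
  have hodd : Odd (Nat.card (fixp G R)) := by
    rw [← Nat.not_even_iff_odd]
    intro he
    obtain ⟨z, hz⟩ := exists_prime_orderOf_dvd_card' 2 (G := fixp G R) (even_iff_two_dvd.mp he)
    have hz2 : (z : Perm α) * z = 1 := by
      have := pow_orderOf_eq_one z
      rw [hz, pow_two] at this
      exact congrArg Subtype.val this
    have hz1 : (z : Perm α) ≠ 1 := fun e => by
      rw [show z = 1 from Subtype.ext e, orderOf_one] at hz
      omega
    obtain ⟨p, hp⟩ : ∃ p, (z : Perm α) p ≠ p := by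
      by_contra hcon
      push Not at hcon
      exact hz1 (Equiv.ext hcon)
    obtain ⟨T, hTR, hT⟩ := Finset.exists_subset_card_eq (s := R) (n := m - 1) (by omega)
    exact noinv z (mem_fixp.mp z.2).1 p hz2 hp T (by omega) fun x hx => (mem_fixp.mp z.2).2 x (hTR hx)
  have odd_moves : ∀ {g σ : Perm α} {x : α}, g ∈ G → σ.support ⊆ R → Agree R g σ →
      Perm.sign σ ≠ 1 → x ∉ R → ¬ Orb G R (g x) x := by
    rintro g σ x hg hσ ha hs hx ⟨k, hk, hkx⟩
    have hsx : σ x = x := by
      by_contra h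
      exact hx (hσ (Perm.mem_support.mpr h))
    refine hs (hbad (insert x R) (by rw [Finset.card_insert_of_notMem hx, hR]) σ
      (hσ.trans (Finset.subset_insert _ _)) ⟨k * g, mul_mem (mem_fixp.mp hk).1 hg, fun y hy => ?_⟩)
    rcases Finset.mem_insert.mp hy with rfl | hy
    · rw [hsx]; exact hkx
    · exact fixp_agree_mul hσ ha hk y hy
  have even_fixes : ∀ {g σ : Perm α} {x : α}, g ∈ G → σ.support ⊆ R → Agree R g σ →
      Perm.sign σ = 1 → x ∉ R → Orb G R (g x) x := by
    intro g σ x hg hσ ha hs hx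
    obtain ⟨g', hg', ha'⟩ := halt (insert x R) (by rw [Finset.card_insert_of_notMem hx, hR]) σ
      (hσ.trans (Finset.subset_insert _ _)) hs
    have hsx : σ x = x := by
      by_contra h
      exact hx (hσ (Perm.mem_support.mpr h))
    have := orb_of_agree hσ hg hg' ha (fun y hy => ha' y (Finset.mem_insert_of_mem hy)) x
    rwa [ha' x (Finset.mem_insert_self _ _), hsx] at this
  obtain ⟨a, b, c, d, hab, hac, had, hbc, hbd, hcd, ha, hb, hc, hd⟩ : ∃ a b c d, a ≠ b ∧ a ≠ c ∧
      a ≠ d ∧ b ≠ c ∧ b ≠ d ∧ c ≠ d ∧ a ∈ R ∧ b ∈ R ∧ c ∈ R ∧ d ∈ R := by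
    obtain ⟨S, hSR, hS⟩ := Finset.exists_subset_card_eq (s := R) (n := 4) (by omega)
    obtain ⟨a, T, haT, rfl, hT⟩ := Finset.card_eq_succ.mp hS
    obtain ⟨b, c, d, hbc, hbd, hcd, rfl⟩ := Finset.card_eq_three.mp hT
    simp only [Finset.mem_insert, Finset.mem_singleton, not_or] at haT
    simp only [Finset.insert_subset_iff, Finset.singleton_subset_iff] at hSR
    exact ⟨a, b, c, d, haT.1, haT.2.1, haT.2.2, hbc, hbd, hcd, hSR.1, hSR.2.1, hSR.2.2.1, hSR.2.2.2⟩
  obtain ⟨t, htG, hta⟩ := hlift (swap a b)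
  have hsab := support_swap_subset ha hb
  have htsign : Perm.sign (swap a b) ≠ 1 := by rw [Perm.sign_swap hab]; decide
  obtain ⟨x₀, hx₀⟩ := Finset.card_pos.mp (show 0 < Rᶜ.card by rw [Finset.card_compl, hR]; omega)
  rw [Finset.mem_compl] at hx₀
  have two : ∀ y, y ∉ R → Orb G R x₀ y ∨ Orb G R (t x₀) y := by
    intro y hy
    have hcx : (insert x₀ R).card = m + 1 := by rw [Finset.card_insert_of_notMem hx₀, hR]
    have hcy : (insert y R).card = m + 1 := by rw [Finset.card_insert_of_notMem hy, hR]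
    obtain ⟨g, hg, hgm⟩ := hh _ _ hcx hcy
    obtain ⟨κ, hκ, hκs, hκy⟩ : ∃ κ : Perm α, κ.support ⊆ insert y R ∧ Perm.sign κ = 1 ∧
        κ (g x₀) = y := by
      by_cases hgy : g x₀ = y
      · exact ⟨1, by simp, map_one _, hgy⟩
      · have hzm := hgm x₀ (Finset.mem_insert_self _ _)
        obtain ⟨w, hw⟩ := Finset.card_pos.mp (show 0 < (((insert y R).erase y).erase (g x₀)).card by
          have := Finset.pred_card_le_card_erase (s := insert y R) (a := y)
          have := Finset.pred_card_le_card_erase (s := (insert y R).erase y) (a := g x₀)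
          omega)
        simp only [Finset.mem_erase] at hw
        obtain ⟨hwz, hwy, hwm⟩ := hw
        refine ⟨swap (g x₀) y * swap y w, support_mul_subset
          (support_swap_subset hzm (Finset.mem_insert_self _ _))
          (support_swap_subset (Finset.mem_insert_self _ _) hwm), ?_, ?_⟩
        · rw [map_mul, Perm.sign_swap hgy, Perm.sign_swap hwy.symm]; decide
        · rw [Perm.mul_apply, swap_apply_of_ne_of_ne hgy hwz.symm, swap_apply_left]
    obtain ⟨k, hk, hka⟩ := halt _ hcy κ hκ hκs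
    have hkx : (k * g) x₀ = y := by
      rw [Perm.mul_apply, hka _ (hgm x₀ (Finset.mem_insert_self _ _)), hκy]
    obtain ⟨σ, hσ, hσa⟩ := restrict_perm (R := R) (g := k * g) fun z hz => by
      have h1 := hka.mem hκ (hgm z (Finset.mem_insert_of_mem hz))
      rw [Perm.mul_apply]
      rcases Finset.mem_insert.mp h1 with h1 | h1
      · exact absurd ((k * g).injective (h1.trans hkx.symm)) fun e => hx₀ (e ▸ hz)
      · exact h1
    rcases Int.units_eq_one_or (Perm.sign σ) with hs | hs
    · left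
      have := even_fixes (mul_mem hk hg) hσ hσa hs hx₀
      rw [hkx] at this
      exact this.symm
    · right
      obtain ⟨e, he, hea⟩ := hlift (σ * swap a b)
      have hse : Perm.sign (σ * swap a b) = 1 := by
        rw [map_mul, hs, Perm.sign_swap hab]; decide
      have h2 := even_fixes he (support_mul_subset hσ hsab) hea hse (hta.not_mem hsab hx₀)
      have h3 := orb_of_agree hσ (mul_mem hk hg) (mul_mem he htG) hσa
        (show Agree R (e * t) σ from by
          have := hea.mul hsab hta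
          rwa [mul_assoc, Equiv.swap_mul_self, mul_one] at this) x₀
      rw [hkx] at h3
      exact (h3.trans h2).symm
  set O : Finset α := Finset.univ.filter fun y => Orb G R x₀ y with hO
  have memO : ∀ y, y ∈ O ↔ Orb G R x₀ y := fun y => by simp [hO]
  have hOR : ∀ y ∈ O, y ∉ R := fun y hy h => hx₀ <| by
    obtain ⟨k, hk, rfl⟩ := (memO y).mp hy
    have := (mem_fixp.mp (inv_mem hk)).2 _ h
    rw [Perm.inv_def, Equiv.symm_apply_apply] at this
    exact this ▸ h
  have hOodd : Odd O.card := by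
    have h1 := card_orbit_mul_card_stabilizer_eq_card_group (fixp G R) x₀
    have h2 : O.card = Fintype.card (orbit (fixp G R) x₀) := by
      rw [← Set.toFinset_card]
      congr 1
      ext y
      rw [memO, Set.mem_toFinset, MulAction.mem_orbit_iff]
      exact ⟨fun ⟨k, hk, e⟩ => ⟨⟨k, hk⟩, e⟩, fun ⟨k, e⟩ => ⟨k, k.2, e⟩⟩
    rw [h2]
    refine Odd.of_dvd_nat (Nat.card_eq_fintype_card (α := fixp G R) ▸ hodd) ⟨_, h1.symm⟩
  have hO' : ∀ y ∈ O.map t.toEmbedding, y ∉ R ∧ y ∉ O := by
    intro y hy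
    obtain ⟨z, hz, rfl⟩ := Finset.mem_map.mp hy
    refine ⟨hta.not_mem hsab (hOR z hz), fun h => ?_⟩
    exact odd_moves htG hsab hta htsign (hOR z hz) (((memO _).mp h).symm.trans ((memO z).mp hz))
  have hunion : Rᶜ = O ∪ O.map t.toEmbedding := by
    ext y
    rw [Finset.mem_compl, Finset.mem_union]
    refine ⟨fun hy => ?_, fun hy => hy.elim (hOR y) fun h => (hO' y h).1⟩
    rcases two y hy with h | ⟨k, hk, h⟩
    · exact Or.inl ((memO y).mpr h)
    · refine Or.inr (Finset.mem_map.mpr ⟨t⁻¹ y, (memO _).mpr ⟨t⁻¹ * k * t, ?_, ?_⟩, by simp⟩)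
      · simpa using conj_mem_fixp (g := t⁻¹) (by rwa [Perm.support_inv]) (inv_mem htG) (hta.inv hsab) hk
      · rw [Perm.mul_apply, Perm.mul_apply, h]
  have hdisj : Disjoint O (O.map t.toEmbedding) := Finset.disjoint_right.mpr fun y hy => (hO' y hy).2
  have hNcard : Rᶜ.card = 2 * O.card := by
    rw [hunion, Finset.card_union_of_disjoint hdisj, Finset.card_map]; ring
  -- a double lift fixes exactly one point of the orbit
  have uniq : ∀ {u σ : Perm α} {p : α}, u ∈ G → σ.support ⊆ R → Agree R u σ → u * u = 1 →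
      Perm.sign σ = 1 → p ∈ R → σ p ≠ p → m ≤ (R.filter fun y => σ y = y).card + 4 →
      ∃ x ∈ O, u x = x ∧ ∀ y ∈ O, u y = y → y = x := by
    intro u σ p hu hσ hua hu2 hs hp hσp hfix
    have keep : ∀ y, y ∉ R → ∀ z, Orb G R z y → Orb G R z (u y) := fun y hy z hz =>
      hz.trans (even_fixes hu hσ hua hs hy).symm
    have h1 : Odd (O.filter fun y => u y = y).card := odd_card_fixed hu2
      (fun y hy => (memO _).mpr (keep y (hOR y hy) x₀ ((memO y).mp hy))) hOodd
    have h2 : Odd ((O.map t.toEmbedding).filter fun y => u y = y).card := by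
      refine odd_card_fixed hu2 (fun y hy => ?_) (by rwa [Finset.card_map])
      obtain ⟨hyR, hyO⟩ := hO' y hy
      have h3 : u y ∈ Rᶜ := Finset.mem_compl.mpr (hua.not_mem hσ hyR)
      rw [hunion, Finset.mem_union] at h3
      exact h3.resolve_left fun h => hyO ((memO y).mpr (((memO _).mp h).trans (even_fixes hu hσ hua hs hyR)))
    by_contra hcon
    push Not at hcon
    obtain ⟨x, hx⟩ := Finset.card_pos.mp h1.pos
    obtain ⟨hxO, hxu⟩ := Finset.mem_filter.mp hx
    obtain ⟨y, hyO, hyu, hne⟩ := hcon x hxO hxu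
    have h4 : 1 < (O.filter fun y => u y = y).card :=
      Finset.one_lt_card.mpr ⟨y, Finset.mem_filter.mpr ⟨hyO, hyu⟩, x, hx, hne⟩
    have h5 : 4 ≤ (O.filter fun y => u y = y).card + ((O.map t.toEmbedding).filter fun y => u y = y).card := by
      rw [Nat.odd_iff] at h1 h2
      omega
    have h6 : ((R.filter fun y => σ y = y) ∪ (Rᶜ.filter fun y => u y = y)).card ≥ m := by
      rw [Finset.card_union_of_disjoint (Finset.disjoint_left.mpr fun z h1 h2 =>
        Finset.mem_compl.mp (Finset.mem_filter.mp h2).1 (Finset.mem_filter.mp h1).1)]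
      rw [hunion, Finset.filter_union, Finset.card_union_of_disjoint (hdisj.mono
        (Finset.filter_subset _ _) (Finset.filter_subset _ _))]
      omega
    obtain ⟨T, hTs, hT⟩ := Finset.exists_subset_card_eq
      (s := (R.filter fun y => σ y = y) ∪ (Rᶜ.filter fun y => u y = y)) (n := m - 1) (by omega)
    refine noinv u hu p hu2 (by rw [hua p hp]; exact hσp) T (by omega) fun z hz => ?_
    rcases Finset.mem_union.mp (hTs hz) with h | h
    · obtain ⟨hzR, hze⟩ := Finset.mem_filter.mp h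
      rw [hua z hzR, hze]
    · exact (Finset.mem_filter.mp h).2
  have fixbound : ∀ p q r s : α, m ≤ (R.filter fun y => (swap p q * swap r s) y = y).card + 4 := by
    intro p q r s
    have hsub : (((R.erase p).erase q).erase r).erase s ⊆
        R.filter fun y => (swap p q * swap r s) y = y := fun y hy => by
      simp only [Finset.mem_erase] at hy
      obtain ⟨hys, hyr, hyq, hyp, hyR⟩ := hy
      refine Finset.mem_filter.mpr ⟨hyR, ?_⟩
      rw [Perm.mul_apply, swap_apply_of_ne_of_ne hyr hys, swap_apply_of_ne_of_ne hyp hyq]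
    have := Finset.card_le_card hsub
    have := Finset.pred_card_le_card_erase (s := R) (a := p)
    have := Finset.pred_card_le_card_erase (s := R.erase p) (a := q)
    have := Finset.pred_card_le_card_erase (s := (R.erase p).erase q) (a := r)
    have := Finset.pred_card_le_card_erase (s := ((R.erase p).erase q).erase r) (a := s)
    omega
  -- commuting lifts of a four-group
  set σ₁ := swap a b * swap c d with hσ₁
  set σ₃ := swap a d * swap b c with hσ₃
  have s1 : σ₁.support ⊆ R := support_mul_subset hsab (support_swap_subset hc hd)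
  have s2 : (swap a c * swap b d).support ⊆ R :=
    support_mul_subset (support_swap_subset ha hc) (support_swap_subset hb hd)
  have h13 : σ₁ * σ₃ = swap a c * swap b d := by
    have := double_mul_double hab had hac hbd hbc hcd.symm
    rwa [swap_comm d c] at this
  have h12 : σ₁ * (swap a c * swap b d) = σ₃ := double_mul_double hab hac had hbc hbd hcd
  have e11 : σ₁ * σ₁ = 1 := by
    have h := h13
    rw [← h12, ← mul_assoc] at h
    have := mul_eq_right.mp h
    exact this
  have e22 : swap a c * swap b d * (swap a c * swap b d) = 1 := by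
    have := double_mul_double hac hab had hbc.symm hcd hbd
    rw [Perm.ext_iff]
    intro z
    simp only [Perm.mul_apply, Perm.one_apply]
    by_cases h1 : z = a
    · subst h1; simp [swap_apply_of_ne_of_ne, hab, hac, had, hab.symm, hac.symm, had.symm, hbc.symm, hcd, hcd.symm, hbc]
    by_cases h2 : z = b
    · subst h2; simp [swap_apply_of_ne_of_ne, hab.symm, hbc, hbd, hcd.symm, had.symm, hbd.symm, hac.symm, hab, hcd]
    by_cases h3 : z = c
    · subst h3; simp [swap_apply_of_ne_of_ne, hab, hac, had, hab.symm, hac.symm, had.symm, hbc.symm, hcd, hcd.symm, hbc]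
    by_cases h4 : z = d
    · subst h4; simp [swap_apply_of_ne_of_ne, hab.symm, hbc, hbd, hcd.symm, had.symm, hbd.symm, hac.symm, hab, hcd]
    simp [swap_apply_of_ne_of_ne, h1, h2, h3, h4]
  obtain ⟨g₁, hg₁, hga₁⟩ := hlift σ₁
  obtain ⟨j₁, -, hc₁2, hc₁a⟩ := exists_invol_lift hodd s1 e11 hg₁ hga₁
  set c₁ := g₁ ^ j₁
  have hc₁ : c₁ ∈ G := pow_mem hg₁ _
  obtain ⟨g₂, hg₂, hga₂⟩ := hlift (swap a c * swap b d)
  obtain ⟨j₂, -, hd2, hda⟩ := exists_invol_lift hodd s2 e22 hg₂ hga₂
  set d₂ := g₂ ^ j₂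
  have hd₂ : d₂ ∈ G := pow_mem hg₂ _
  have s3 : σ₃.support ⊆ R := support_mul_subset (support_swap_subset ha hd) (support_swap_subset hb hc)
  have e33 : σ₃ * σ₃ = 1 := by
    have h : σ₁ * (swap a c * swap b d) = (swap a c * swap b d) * σ₁ := by
      rw [h12, ← h13]
      have := double_mul_double hac hab had hbc.symm hcd hbd
      rw [h13, this, hσ₃, swap_comm c b]
    calc σ₃ * σ₃ = σ₁ * (swap a c * swap b d) * (swap a c * swap b d * σ₁) := by rw [← h, h12]
      _ = σ₁ * (swap a c * swap b d * (swap a c * swap b d)) * σ₁ := by simp only [mul_assoc]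
      _ = 1 := by rw [e22, mul_one, e11]
  obtain ⟨j₃, -, hz2, hza⟩ := exists_invol_lift hodd (g := c₁ * d₂) s3 e33 (mul_mem hc₁ hd₂)
    (h12 ▸ hc₁a.mul s2 hda)
  set c₃ := (c₁ * d₂) ^ j₃
  have hc₃ : c₃ ∈ G := pow_mem (mul_mem hc₁ hd₂) _
  have hcom : c₁ * c₃ = c₃ * c₁ := by
    have h1 : c₁ * (c₁ * d₂) * c₁⁻¹ = (c₁ * d₂)⁻¹ := by
      rw [mul_inv_rev, inv_eq_of_mul_eq_one_right hc₁2, inv_eq_of_mul_eq_one_right hd2, ← mul_assoc,
        hc₁2, one_mul]
    have h2 : c₁ * c₃ * c₁⁻¹ = c₃ := by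
      calc c₁ * c₃ * c₁⁻¹ = (c₁ * (c₁ * d₂) * c₁⁻¹) ^ j₃ := (conj_pow ..).symm
        _ = c₃⁻¹ := by rw [h1, inv_pow]
        _ = c₃ := inv_eq_of_mul_eq_one_right hz2
    exact mul_inv_eq_iff_eq_mul.mp h2
  have hsign : ∀ {p q r s : α}, p ≠ q → r ≠ s → Perm.sign (swap p q * swap r s) = 1 := fun h h' => by
    rw [map_mul, Perm.sign_swap h, Perm.sign_swap h']; decide
  have hp : ∀ {p q r s : α}, p ≠ q → p ≠ r → p ≠ s → (swap p q * swap r s) p ≠ p := fun h h' h'' => by
    rw [Perm.mul_apply, swap_apply_of_ne_of_ne h' h'', swap_apply_left]; exact h.symm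
  have h2a : Agree R (c₁ * c₃) (swap a c * swap b d) := h13 ▸ hc₁a.mul s3 hza
  have h22 : c₁ * c₃ * (c₁ * c₃) = 1 := by
    calc c₁ * c₃ * (c₁ * c₃) = c₁ * (c₃ * c₁) * c₃ := by simp only [mul_assoc]
      _ = c₁ * c₁ * (c₃ * c₃) := by rw [← hcom]; simp only [mul_assoc]
      _ = 1 := by rw [hc₁2, hz2, one_mul]
  obtain ⟨x, hxO, hx1, hu1⟩ := uniq hc₁ s1 hc₁a hc₁2 (hsign hab hcd) ha (hp hab hac had) (fixbound _ _ _ _)
  obtain ⟨x', hxO', hx3', hu3⟩ := uniq hc₃ s3 hza hz2 (hsign had hbc) ha (hp had hab hac) (fixbound _ _ _ _)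
  have hxx : x' = x := by
    refine hu1 x' hxO' (hu3 _ ((memO _).mpr (((memO _).mp hxO').trans
      (even_fixes hc₁ s1 hc₁a (hsign hab hcd) (hOR x' hxO')).symm)) ?_)
    rw [← Perm.mul_apply, ← hcom, Perm.mul_apply, hx3']
  subst hxx
  obtain ⟨x'', hxO'', hx2, hu2⟩ := uniq (mul_mem hc₁ hc₃) s2 h2a h22 (hsign hac hbd) ha
    (hp hac hab had) (fixbound _ _ _ _)
  have hxx : x'' = x' := (hu2 x' hxO' (by rw [Perm.mul_apply, hx3', hx1])).symm
  subst hxx
  have hk11 : ∀ z, c₁ * (c₁ * z) = z := fun z => by rw [← mul_assoc, hc₁2, one_mul]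
  have hk33 : ∀ z, c₃ * (c₃ * z) = z := fun z => by rw [← mul_assoc, hz2, one_mul]
  have hk31 : c₃ * c₁ = c₁ * c₃ := hcom.symm
  have hk31' : ∀ z, c₃ * (c₁ * z) = c₁ * (c₃ * z) := fun z => by rw [← mul_assoc, hk31, mul_assoc]
  let A : Subgroup (Perm α) :=
    { carrier := {g | g = 1 ∨ g = c₁ ∨ g = c₃ ∨ g = c₁ * c₃}
      one_mem' := Or.inl rfl
      mul_mem' := by
        intro g g' hg hg'
        simp only [Set.mem_setOf_eq] at hg hg' ⊢
        rcases hg with rfl | rfl | rfl | rfl <;> rcases hg' with rfl | rfl | rfl | rfl <;>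
          simp only [one_mul, mul_one, mul_assoc, hc₁2, hz2, hk11, hk33, hk31, hk31', eq_self_iff_true,
            true_or, or_true]
      inv_mem' := by
        intro g hg
        simp only [Set.mem_setOf_eq] at hg ⊢
        rcases hg with rfl | rfl | rfl | rfl
        · exact Or.inl inv_one
        · exact Or.inr (Or.inl (inv_eq_of_mul_eq_one_right hc₁2))
        · exact Or.inr (Or.inr (Or.inl (inv_eq_of_mul_eq_one_right hz2)))
        · exact Or.inr (Or.inr (Or.inr (inv_eq_of_mul_eq_one_right h22))) }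
  have hAmem : ∀ g, g ∈ A ↔ g = 1 ∨ g = c₁ ∨ g = c₃ ∨ g = c₁ * c₃ := fun g => Iff.rfl
  have hne1 : c₁ ≠ 1 := fun e => hp hab hac had (by rw [← hc₁a a ha, e, Perm.one_apply])
  have hne3 : c₃ ≠ 1 := fun e => hp had hab hac (by rw [← hza a ha, e, Perm.one_apply])
  have hne2 : c₁ * c₃ ≠ 1 := fun e => hp hac hab had (by rw [← h2a a ha, e, Perm.one_apply])
  have hne13 : c₁ ≠ c₃ := fun e => hne2 (by rw [← e, hc₁2])
  have hcard4 : Nat.card A = 4 := by
    show Nat.card ({g | g = 1 ∨ g = c₁ ∨ g = c₃ ∨ g = c₁ * c₃} : Set (Perm α)) = 4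
    rw [Nat.card_coe_set_eq, show {g | g = 1 ∨ g = c₁ ∨ g = c₃ ∨ g = c₁ * c₃} =
      (({1, c₁, c₃, c₁ * c₃} : Finset (Perm α)) : Set (Perm α)) by ext; simp, Set.ncard_coe_finset]
    simp [hne1.symm, hne3.symm, hne2.symm, hne13, hne1, hne3]
  have hAinv : ∀ g ∈ A, g * g = 1 := fun g hg => by
    rcases (hAmem g).mp hg with rfl | rfl | rfl | rfl
    exacts [one_mul 1, hc₁2, hz2, h22]
  haveI : IsMulCommutative A := ⟨⟨fun p q => by
    refine Subtype.ext ?_
    show (p : Perm α) * q = q * p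
    rcases (hAmem _).mp p.2 with h | h | h | h <;> rcases (hAmem _).mp q.2 with h' | h' | h' | h' <;>
      simp only [h, h', one_mul, mul_one, mul_assoc, hc₁2, hz2, hk11, hk33, hk31, hk31']⟩⟩
  have hcyc : ¬ IsCyclic A := by
    intro h
    obtain ⟨g, hg⟩ := h.exists_ofOrder_eq_natCard
    have : orderOf g ∣ 2 := orderOf_dvd_of_pow_eq_one (by rw [pow_two]; exact Subtype.ext (hAinv g g.2))
    have := Nat.le_of_dvd (by norm_num) this
    omega
  have hAnorm : A ≤ Subgroup.normalizer ((fixp G R : Subgroup (Perm α)) : Set (Perm α)) := by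
    intro g hg
    obtain ⟨hgG, σ, hσ, hga⟩ : g ∈ G ∧ ∃ σ : Perm α, σ.support ⊆ R ∧ Agree R g σ := by
      rcases (hAmem g).mp hg with rfl | rfl | rfl | rfl
      exacts [⟨one_mem G, 1, by simp, fun _ _ => rfl⟩, ⟨hc₁, _, s1, hc₁a⟩, ⟨hc₃, _, s3, hza⟩,
        ⟨mul_mem hc₁ hc₃, _, s2, h2a⟩]
    have hgi : g⁻¹ = g := inv_eq_of_mul_eq_one_right (hAinv g hg)
    refine Subgroup.mem_normalizer_iff.mpr fun h => ⟨conj_mem_fixp hσ hgG hga, fun hh => ?_⟩
    have := conj_mem_fixp hσ hgG hga hh
    simpa [hgi, mul_assoc, ← mul_assoc g g, hAinv g hg] using this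
  have hcop : (Nat.card A).Coprime (Nat.card (fixp G R)) := by
    rw [hcard4]
    exact Nat.Coprime.pow_left 2 ((Nat.prime_two.coprime_iff_not_dvd).mpr
      fun h => (Nat.not_even_iff_odd.mpr hodd) (even_iff_two_dvd.mpr h))
  have hfix : fixp G R ≤ stabilizer (Perm α) x'' := by
    rw [← Cfsg.Agent.Basics.iSup_inf_centralizer_eq A (fixp G R) hcyc hAnorm hcop]
    refine iSup₂_le fun g hg h hh => ?_
    obtain ⟨hhH, hhc⟩ := Subgroup.mem_inf.mp hh
    have hcomm := (Subgroup.mem_centralizer_iff.mp hhc g rfl)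
    have hfixg : g x'' = x'' := by
      rcases (hAmem g).mp hg.1 with rfl | rfl | rfl | rfl
      exacts [rfl, hx1, hx3', hx2]
    have hhx : h x'' ∈ O := (memO _).mpr (((memO _).mp hxO'').trans ⟨h, hhH, rfl⟩)
    have hgh : g (h x'') = h x'' := by rw [← Perm.mul_apply, hcomm, Perm.mul_apply, hfixg]
    show h x'' = x''
    rcases (hAmem g).mp hg.1 with rfl | rfl | rfl | rfl
    exacts [absurd rfl hg.2, hu1 _ hhx hgh, hu3 _ hhx hgh, hu2 _ hhx hgh]
  have hO1 : O ⊆ {x''} := fun y hy => by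
    obtain ⟨h, hh, rfl⟩ := (((memO x'').mp hxO'').symm.trans ((memO y).mp hy))
    exact Finset.mem_singleton.mpr (hfix hh)
  have := Finset.card_le_card hO1
  rw [Finset.card_singleton] at this
  rw [Finset.card_compl, hR] at hNcard
  omega

end Cfsg.Agent.PermGp.LivWag
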