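import Cfsg.Agent.Lib.PermGp.LivWag.Lifts
import Cfsg.Agent.Lib.PermGp.ZassenhausInvolutions
import Cfsg.Agent.S0708

/-! Multiply transitive groups in which only the identity fixes more than `m` points. -/

set_option autoImplicit false
set_option linter.unusedSectionVars false

namespace Cfsg.Agent.PermGp.LivWag

open MulAction Equiv

variable {α : Type*} [Fintype α] [DecidableEq α] {G : Subgroup (Perm α)} {m : ℕ}

/-- `G` is `m`-transitive and only the identity fixes more than `m` points. -/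
structure Reduced (G : Subgroup (Perm α)) (m : ℕ) : Prop where
  trans : IsMultiplyPretransitive G α m
  lt : m < Fintype.card α
  eq_one : ∀ g ∈ G, ∀ S : Finset α, m + 1 ≤ S.card → (∀ x ∈ S, g x = x) → g = 1

variable {R : Finset α}

theorem Reduced.semireg (hr : Reduced G m) (hR : R.card = m) {h : Perm α} (hh : h ∈ fixp G R)
    {x : α} (hx : x ∉ R) (hfix : h x = x) : h = 1 :=
  hr.eq_one h (mem_fixp.mp hh).1 (insert x R) (by rw [Finset.card_insert_of_notMem hx, hR])
    fun y hy => by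
      rcases Finset.mem_insert.mp hy with rfl | hy
      · exact hfix
      · exact (mem_fixp.mp hh).2 y hy

/-- `x` and `y` lie in one orbit of the pointwise stabiliser of `R`. -/
def Orb (G : Subgroup (Perm α)) (R : Finset α) (x y : α) : Prop := ∃ h ∈ fixp G R, h x = y

theorem Orb.refl (x : α) : Orb G R x x := ⟨1, one_mem _, rfl⟩

theorem Orb.symm {x y : α} : Orb G R x y → Orb G R y x := fun ⟨h, hh, e⟩ =>
  ⟨h⁻¹, inv_mem hh, by rw [← e, Perm.inv_def, Equiv.symm_apply_apply]⟩

theorem Orb.trans {x y z : α} : Orb G R x y → Orb G R y z → Orb G R x z :=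
  fun ⟨h, hh, e⟩ ⟨k, hk, e'⟩ => ⟨k * h, mul_mem hk hh, by rw [Perm.mul_apply, e, e']⟩

theorem Orb.map {g σ : Perm α} (hσ : σ.support ⊆ R) (hg : g ∈ G) (ha : Agree R g σ) {x y : α} :
    Orb G R x y → Orb G R (g x) (g y) := fun ⟨h, hh, e⟩ =>
  ⟨g * h * g⁻¹, conj_mem_fixp hσ hg ha hh, by
    rw [Perm.mul_apply, Perm.mul_apply, Perm.inv_def, Equiv.symm_apply_apply, e]⟩

theorem orb_of_agree {g g' σ : Perm α} (hσ : σ.support ⊆ R) (hg : g ∈ G) (hg' : g' ∈ G)
    (ha : Agree R g σ) (ha' : Agree R g' σ) (x : α) : Orb G R (g x) (g' x) :=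
  ⟨g * (g⁻¹ * g') * g⁻¹, conj_mem_fixp hσ hg ha (inv_mul_mem_fixp hg hg' ha ha'), by
    simp [Perm.mul_apply]⟩

theorem Reduced.orb_image_card (hr : Reduced G m) (hR : R.card = m) {x : α} (hx : x ∉ R) :
    ∃ s : Finset α, s.card = Nat.card (fixp G R) ∧ s ⊆ Rᶜ ∧ ∀ y, y ∈ s ↔ Orb G R x y := by
  classical
  refine ⟨(Finset.univ : Finset (fixp G R)).image (fun h : fixp G R => h.1 x), ?_, ?_, ?_⟩
  · rw [Finset.card_image_of_injective, Finset.card_univ, Nat.card_eq_fintype_card]
    intro h k e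
    have h1 : (k : Perm α)⁻¹ * h = 1 := by
      refine hr.semireg hR (mul_mem (inv_mem k.2) h.2) hx ?_
      rw [Perm.mul_apply, show (h : Perm α) x = (k : Perm α) x from e, Perm.inv_def,
        Equiv.symm_apply_apply]
    exact Subtype.ext (inv_mul_eq_one.mp h1).symm
  · intro y hy
    obtain ⟨h, -, rfl⟩ := Finset.mem_image.mp hy
    refine Finset.mem_compl.mpr fun hh => hx ?_
    have h1 := (mem_fixp.mp (inv_mem h.2)).2 _ hh
    rw [Perm.inv_def, Equiv.symm_apply_apply] at h1
    exact h1 ▸ hh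
  · intro y
    rw [Finset.mem_image]
    exact ⟨fun ⟨h, _, e⟩ => ⟨h, h.2, e⟩, fun ⟨h, hh, e⟩ => ⟨⟨h, hh⟩, Finset.mem_univ _, e⟩⟩

/-- The outside of `R` consists of at most two orbits. -/
def TwoOrb (G : Subgroup (Perm α)) (R : Finset α) : Prop :=
  ∀ x y z, x ∉ R → y ∉ R → z ∉ R → Orb G R x y ∨ Orb G R y z ∨ Orb G R x z

theorem Reduced.twoOrb_of_le (hr : Reduced G m) (hR : R.card = m)
    (hN : Rᶜ.card < 3 * Nat.card (fixp G R)) : TwoOrb G R := by
  intro x y z hx hy hz
  by_contra hcon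
  push Not at hcon
  obtain ⟨sx, cx, ux, mx⟩ := hr.orb_image_card hR hx
  obtain ⟨sy, cy, uy, my⟩ := hr.orb_image_card hR hy
  obtain ⟨sz, cz, uz, mz⟩ := hr.orb_image_card hR hz
  have dxy : Disjoint sx sy := Finset.disjoint_left.mpr fun w h1 h2 =>
    hcon.1 (((mx w).mp h1).trans ((my w).mp h2).symm)
  have dz : Disjoint (sx ∪ sy) sz := Finset.disjoint_left.mpr fun w h1 h2 => by
    rcases Finset.mem_union.mp h1 with h1 | h1
    · exact hcon.2.2 (((mx w).mp h1).trans ((mz w).mp h2).symm)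
    · exact hcon.2.1 (((my w).mp h1).trans ((mz w).mp h2).symm)
  have h1 := Finset.card_le_card (Finset.union_subset (Finset.union_subset ux uy) uz)
  rw [Finset.card_union_of_disjoint dz, Finset.card_union_of_disjoint dxy, cx, cy, cz] at h1
  omega

/-- Realise prescribed images while fixing a small set pointwise. -/
theorem exists_map_fix (ht : IsMultiplyPretransitive G α m) (hm : m ≤ Fintype.card α)
    {R₀ : Finset α} {j : ℕ} (hj : R₀.card + j ≤ m) (e e' : Fin j ↪ α)
    (he : ∀ i, e i ∉ R₀) (he' : ∀ i, e' i ∉ R₀) :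
    ∃ g ∈ fixp G R₀, ∀ i, g (e i) = e' i := by
  classical
  obtain ⟨g, hg, hgx⟩ := exists_map ht hm (s := R₀ ∪ Finset.univ.map e)
    (by have := Finset.card_union_le R₀ (Finset.univ.map e); simp at this; omega)
    (fun x => if x ∈ R₀ then x else if h : ∃ i, e i = x then e' h.choose else x) (by
      intro x hx y hy h
      simp only [Finset.coe_union, Set.mem_union, Finset.mem_coe, Finset.mem_map, Finset.mem_univ,
        true_and] at hx hy
      by_cases hxR : x ∈ R₀ <;> by_cases hyR : y ∈ R₀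
      · simpa [hxR, hyR] using h
      · simp only [hxR, hyR, if_true, if_false, dif_pos (hy.resolve_left hyR)] at h
        exact absurd (h ▸ hxR) (he' _)
      · simp only [hxR, hyR, if_true, if_false, dif_pos (hx.resolve_left hxR)] at h
        exact absurd (h ▸ hyR) (he' _)
      · simp only [hxR, hyR, if_false, dif_pos (hy.resolve_left hyR),
          dif_pos (hx.resolve_left hxR)] at h
        have := e'.injective h
        rw [← (hx.resolve_left hxR).choose_spec, this, (hy.resolve_left hyR).choose_spec])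
  refine ⟨g, mem_fixp.mpr ⟨hg, fun z hz => by rw [hgx z (Finset.mem_union_left _ hz), if_pos hz]⟩,
    fun i => ?_⟩
  rw [hgx _ (Finset.mem_union_right _ (Finset.mem_map_of_mem _ (Finset.mem_univ i))), if_neg (he i),
    dif_pos ⟨i, rfl⟩]
  exact congrArg e' (e.injective (Exists.choose_spec (⟨i, rfl⟩ : ∃ k, e k = e i)))

/-- The action of a pointwise stabiliser on the remaining points. -/
@[instance_reducible]
def outsideAction (G : Subgroup (Perm α)) (R₀ : Finset α) :
    MulAction (fixp G R₀) {x // x ∉ R₀} where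
  smul g x := ⟨(g : Perm α) x, fun h => x.2 (by
    have h1 := (mem_fixp.mp (inv_mem g.2)).2 _ h
    rw [Perm.inv_def, Equiv.symm_apply_apply] at h1
    exact h1 ▸ h)⟩
  one_smul x := Subtype.ext rfl
  mul_smul g g' x := Subtype.ext rfl

theorem Reduced.twoOrb_of_even (hr : Reduced G m) (hm : 2 ≤ m) (hR : R.card = m)
    (heven : Even (Nat.card (fixp G R))) : TwoOrb G R := by
  classical
  obtain ⟨a, ha, b, hb, hab⟩ := Finset.one_lt_card.mp (show 1 < R.card by omega)
  set R₀ := (R.erase a).erase b with hR₀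
  have hbe : b ∈ R.erase a := Finset.mem_erase.mpr ⟨hab.symm, hb⟩
  have hc : R₀.card + 2 = m := by
    have h1 := Finset.card_erase_add_one hbe
    have h2 := Finset.card_erase_add_one ha
    rw [hR₀]; omega
  letI := outsideAction G R₀
  have h2t : IsMultiplyPretransitive (fixp G R₀) {x // x ∉ R₀} 2 := by
    refine ⟨fun e e' => ?_⟩
    obtain ⟨g, hg, hge⟩ := exists_map_fix hr.trans hr.lt.le (R₀ := R₀) hc.le
      (e.trans (Function.Embedding.subtype _)) (e'.trans (Function.Embedding.subtype _))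
      (fun i => (e i).2) (fun i => (e' i).2)
    exact ⟨⟨g, hg⟩, DFunLike.ext _ _ fun i => Subtype.ext (hge i)⟩
  have h3 : ∀ g : fixp G R₀, ∀ x y z : {x // x ∉ R₀}, x ≠ y → y ≠ z → x ≠ z →
      g • x = x → g • y = y → g • z = z → g = 1 := by
    intro g x y z hxy hyz hxz hx hy hz
    refine Subtype.ext (hr.eq_one g (mem_fixp.mp g.2).1 (R₀ ∪ {x.1, y.1, z.1}) ?_ ?_)
    · rw [Finset.card_union_of_disjoint (by simp [x.2, y.2, z.2])]
      have : ({x.1, y.1, z.1} : Finset α).card = 3 := by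
        simp [Subtype.coe_ne_coe.mpr hxy, Subtype.coe_ne_coe.mpr hyz, Subtype.coe_ne_coe.mpr hxz]
      omega
    · intro w hw
      rcases Finset.mem_union.mp hw with hw | hw
      · exact (mem_fixp.mp g.2).2 w hw
      · simp only [Finset.mem_insert, Finset.mem_singleton] at hw
        rcases hw with rfl | rfl | rfl
        · exact congrArg Subtype.val hx
        · exact congrArg Subtype.val hy
        · exact congrArg Subtype.val hz
  have ha₀ : a ∉ R₀ := fun h => (Finset.mem_erase.mp (Finset.mem_of_mem_erase h)).1 rfl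
  have hb₀ : b ∉ R₀ := fun h => (Finset.mem_erase.mp h).1 rfl
  let eqv : ↥(stabilizer (fixp G R₀) (⟨a, ha₀⟩ : {x // x ∉ R₀}) ⊓
      stabilizer (fixp G R₀) (⟨b, hb₀⟩ : {x // x ∉ R₀})) ≃ fixp G R :=
    { toFun := fun g => ⟨g.1.1, mem_fixp.mpr ⟨(mem_fixp.mp g.1.2).1, fun x hx => by
        by_cases hxa : x = a
        · subst hxa; exact congrArg Subtype.val g.2.1
        by_cases hxb : x = b
        · subst hxb; exact congrArg Subtype.val g.2.2
        exact (mem_fixp.mp g.1.2).2 x
          (Finset.mem_erase.mpr ⟨hxb, Finset.mem_erase.mpr ⟨hxa, hx⟩⟩)⟩⟩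
      invFun := fun h => ⟨⟨h.1, mem_fixp.mpr ⟨(mem_fixp.mp h.2).1, fun x hx =>
          (mem_fixp.mp h.2).2 x (Finset.mem_of_mem_erase (Finset.mem_of_mem_erase hx))⟩⟩,
        Subtype.ext ((mem_fixp.mp h.2).2 a ha), Subtype.ext ((mem_fixp.mp h.2).2 b hb)⟩
      left_inv := fun g => rfl
      right_inv := fun h => rfl }
  have key := card_sub_two_le_two_mul' h2t h3 (a := (⟨a, ha₀⟩ : {x // x ∉ R₀}))
    (b := ⟨b, hb₀⟩) (by simp [Subtype.ext_iff, hab]) (by rwa [Nat.card_congr eqv])
  rw [Nat.card_congr eqv] at key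
  refine hr.twoOrb_of_le hR ?_
  have h1 : Fintype.card {x // x ∉ R₀} = Rᶜ.card + 2 := by
    rw [Fintype.card_subtype_compl, Finset.card_compl, Fintype.card_coe]
    have := hr.lt
    omega
  have h2 : 0 < Nat.card (fixp G R) := Nat.card_pos
  omega

/-- Every even permutation of `R` has a lift fixing `x`. -/
def Good (G : Subgroup (Perm α)) (R : Finset α) (x : α) : Prop :=
  x ∉ R ∧ ∀ σ : Perm α, σ.support ⊆ R → Perm.sign σ = 1 → ∃ g ∈ G, Agree R g σ ∧ g x = x

theorem good_of_orb {x : α} (hx : x ∉ R)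
    (h : ∀ σ : Perm α, σ.support ⊆ R → Perm.sign σ = 1 →
      ∃ g ∈ G, Agree R g σ ∧ Orb G R (g x) x) : Good G R x := by
  refine ⟨hx, fun σ hσ hs => ?_⟩
  obtain ⟨g, hg, ha, k, hk, hkx⟩ := h σ hσ hs
  exact ⟨k * g, mul_mem (mem_fixp.mp hk).1 hg, fixp_agree_mul hσ ha hk, hkx⟩

/-- Induction on permutations supported in `R` through transpositions inside `R`. -/
theorem supported_induction {P : Perm α → Prop} (one : P 1)
    (step : ∀ a ∈ R, ∀ b ∈ R, a ≠ b → ∀ σ : Perm α, σ.support ⊆ R → P σ → P (swap a b * σ))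
    {σ : Perm α} (hσ : σ.support ⊆ R) : P σ := by
  have hmem : ∀ x, x ∈ R → σ x ∈ R := fun x => apply_mem hσ
  have hiff : ∀ x, σ x ∈ R ↔ x ∈ R := fun x => ⟨fun h => by
    have := inv_apply_mem hσ h
    rwa [Perm.inv_def, Equiv.symm_apply_apply] at this, hmem x⟩
  have key : ∀ τ : Perm {x // x ∈ R}, P (Perm.ofSubtype τ) ∧ (Perm.ofSubtype τ).support ⊆ R := by
    intro τ
    induction τ using Perm.swap_induction_on with
    | one => simp [one]
    | swap_mul f a b hab ih =>
      rw [map_mul, Perm.ofSubtype_swap_eq]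
      exact ⟨step a a.2 b b.2 (fun h => hab (Subtype.ext h)) _ ih.2 ih.1,
        support_mul_subset (support_swap_subset a.2 b.2) ih.2⟩
  have := (key (σ.subtypePerm hiff)).1
  rwa [Perm.ofSubtype_subtypePerm _ fun x hx => hσ (Perm.mem_support.mpr hx)] at this

/-- A permutation of `R` moving one pair to another. -/
theorem exists_pair_perm {a b a' b' : α} (ha : a ∈ R) (hb : b ∈ R) (ha' : a' ∈ R) (hb' : b' ∈ R)
    (hab : a ≠ b) (hab' : a' ≠ b') :
    ∃ π : Perm α, π.support ⊆ R ∧ π a = a' ∧ π b = b' := by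
  refine ⟨swap (swap a a' b) b' * swap a a', support_mul_subset
    (support_swap_subset (apply_mem (support_swap_subset ha ha') hb) hb')
    (support_swap_subset ha ha'), ?_, ?_⟩
  · rw [Perm.mul_apply, swap_apply_left]
    refine swap_apply_of_ne_of_ne (fun h => hab ?_) hab'
    exact (swap a a').injective ((swap_apply_left a a').trans h)
  · rw [Perm.mul_apply, swap_apply_left]

theorem Agree.conj {g u σ π : Perm α} (hσ : σ.support ⊆ R) (hπ : π.support ⊆ R)
    (ha : Agree R g σ) (hu : Agree R u π) : Agree R (u * g * u⁻¹) (π * σ * π⁻¹) :=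
  (hu.mul hσ ha).mul (by rwa [Perm.support_inv]) (hu.inv hπ)

theorem Reduced.good_of_twoOrb (hr : Reduced G m) (hm : 2 ≤ m) (hR : R.card = m)
    (h2 : TwoOrb G R) {x : α} (hx : x ∉ R) : Good G R x := by
  have hl : ∀ σ : Perm α, Induces G R σ := exists_lift hr.trans hr.lt.le hR.le
  let χ : Perm α → Prop := fun g => Orb G R (g x) x
  have hsame : ∀ {g g' σ : Perm α}, σ.support ⊆ R → g ∈ G → g' ∈ G → Agree R g σ → Agree R g' σ →
      (χ g ↔ χ g') := fun hσ hg hg' ha ha' =>
    ⟨fun h => (orb_of_agree hσ hg hg' ha ha' x).symm.trans h,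
     fun h => (orb_of_agree hσ hg hg' ha ha' x).trans h⟩
  have hmul : ∀ {g g' σ σ' : Perm α}, σ.support ⊆ R → σ'.support ⊆ R → g ∈ G → g' ∈ G →
      Agree R g σ → Agree R g' σ' → (χ (g * g') ↔ (χ g ↔ χ g')) := by
    intro g g' σ σ' hσ hσ' hg hg' ha ha'
    have h' := ha'.not_mem hσ' hx
    show Orb G R (g (g' x)) x ↔ _
    by_cases hq : χ g'
    · have := Orb.map hσ hg ha hq
      simp only [hq, iff_true]
      exact ⟨fun h => this.symm.trans h, fun h => this.trans h⟩
    · have hne : ¬ Orb G R (g (g' x)) (g x) := fun h => hq (by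
        have := Orb.map (g := g⁻¹) (by rwa [Perm.support_inv]) (inv_mem hg) (ha.inv hσ) h
        rwa [Perm.inv_def, Equiv.symm_apply_apply, Equiv.symm_apply_apply] at this)
      simp only [hq, iff_false]
      refine ⟨fun h h'' => hne (h.trans h''.symm), fun h => ?_⟩
      rcases h2 (g (g' x)) (g x) x (ha.not_mem hσ h') (ha.not_mem hσ hx) hx with h1 | h1 | h1
      · exact absurd h1 hne
      · exact absurd h1 h
      · exact h1
  have hconj : ∀ {g u σ π : Perm α}, σ.support ⊆ R → π.support ⊆ R → g ∈ G → u ∈ G →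
      Agree R g σ → Agree R u π → (χ (u * g * u⁻¹) ↔ χ g) := by
    intro g u σ π hσ hπ hg hu ha hb
    have e1 : χ (1 : Perm α) := Orb.refl x
    have e2 := hmul hπ (by rwa [Perm.support_inv]) hu (inv_mem hu) hb (hb.inv hπ)
    rw [mul_inv_cancel] at e2
    have e3 := hmul (support_mul_subset hπ hσ) (by rwa [Perm.support_inv]) (mul_mem hu hg)
      (inv_mem hu) (hb.mul hσ ha) (hb.inv hπ)
    have e4 := hmul hπ hσ hu hg hb ha
    tauto
  obtain ⟨a, ha, b, hb, hab⟩ := Finset.one_lt_card.mp (show 1 < R.card by omega)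
  obtain ⟨t, htG, hta⟩ := hl (swap a b)
  have hswap : ∀ a' ∈ R, ∀ b' ∈ R, a' ≠ b' → ∀ u ∈ G, Agree R u (swap a' b') → (χ u ↔ χ t) := by
    intro a' ha' b' hb' hab' u hu hua
    obtain ⟨π, hπ, hπa, hπb⟩ := exists_pair_perm ha hb ha' hb' hab hab'
    obtain ⟨w, hw, hwa⟩ := hl π
    have h1 : π * swap a b * π⁻¹ = swap a' b' := by rw [← hπa, ← hπb, swap_apply_apply]
    exact (hsame (support_swap_subset ha' hb') hu (mul_mem (mul_mem hw htG) (inv_mem hw)) hua
      (h1 ▸ Agree.conj (support_swap_subset ha hb) hπ hta hwa)).trans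
      (hconj (support_swap_subset ha hb) hπ htG hw hta hwa)
  refine good_of_orb hx fun σ hσ hs => ?_
  obtain ⟨g, hg, hga⟩ := hl σ
  refine ⟨g, hg, hga, ?_⟩
  have key : σ.support ⊆ R ∧ ∀ g ∈ G, Agree R g σ → (χ g ↔ (Perm.sign σ = 1 ∨ χ t)) := by
    refine supported_induction (R := R)
      (P := fun σ => σ.support ⊆ R ∧ ∀ g ∈ G, Agree R g σ → (χ g ↔ (Perm.sign σ = 1 ∨ χ t))) ?_ ?_ hσ
    · refine ⟨by simp, fun g hg hga => ?_⟩
      simp only [map_one, true_or, iff_true]
      exact (hsame (σ := 1) (by simp) hg (one_mem G) hga (fun _ _ => rfl)).mpr (Orb.refl x)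
    · intro a' ha' b' hb' hab' τ hτ ih
      refine ⟨support_mul_subset (support_swap_subset ha' hb') hτ, fun g hg hga => ?_⟩
      obtain ⟨u, hu, hua⟩ := hl (swap a' b')
      obtain ⟨v, hv, hva⟩ := hl τ
      rw [hsame (support_mul_subset (support_swap_subset ha' hb') hτ) hg (mul_mem hu hv) hga
        (hua.mul hτ hva), hmul (support_swap_subset ha' hb') hτ hu hv hua hva,
        hswap a' ha' b' hb' hab' u hu hua, ih.2 v hv hva, map_mul, Perm.sign_swap hab']
      rcases Int.units_eq_one_or (Perm.sign τ) with h | h <;> simp [h]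
  exact (key.2 g hg hga).mpr (Or.inl hs)

end Cfsg.Agent.PermGp.LivWag
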