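import Cfsg.Agent.Lib.PermGp.LivWag.OddOut
import Cfsg.Agent.S0743

/-! A `k`-transitive group induces the alternating group on some `(k+1)`-set. -/

set_option autoImplicit false
set_option linter.unusedSectionVars false

namespace Cfsg.Agent.PermGp.LivWag

open MulAction Equiv

universe u

variable {α : Type*} [Fintype α] [DecidableEq α] {G : Subgroup (Perm α)} {m : ℕ} {R : Finset α}

/-- Every even permutation of `Δ` is induced. -/
def AltSet (G : Subgroup (Perm α)) (Δ : Finset α) : Prop :=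
  ∀ σ : Perm α, σ.support ⊆ Δ → Perm.sign σ = 1 → Induces G Δ σ

theorem altSet_of_two_good {Δ : Finset α} (hΔ : 5 ≤ Δ.card) {x y : α} (hxΔ : x ∈ Δ) (hyΔ : y ∈ Δ)
    (hxy : x ≠ y) (hx : Good G (Δ.erase x) x) (hy : Good G (Δ.erase y) y) : AltSet G Δ := by
  have base : ∀ {z : α}, Good G (Δ.erase z) z → ∀ σ : Perm α, σ.support ⊆ Δ.erase z →
      Perm.sign σ = 1 → Induces G Δ σ := by
    intro z hz σ hσ hs
    obtain ⟨g, hg, hga, hgz⟩ := hz.2 σ hσ hs
    refine ⟨g, hg, fun w hw => ?_⟩
    by_cases hwz : w = z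
    · subst hwz
      have : σ w = w := by
        by_contra h
        exact hz.1 (hσ (Perm.mem_support.mpr h))
      rw [hgz, this]
    · exact hga w (Finset.mem_erase.mpr ⟨hwz, hw⟩)
  have move : ∀ {z p q : α}, Good G (Δ.erase z) z → p ∈ Δ → q ∈ Δ → p ≠ q → p ≠ z → q ≠ z →
      ∃ κ : Perm α, κ.support ⊆ Δ ∧ Perm.sign κ = 1 ∧ Induces G Δ κ ∧ κ p = q := by
    intro z p q hz hp hq hpq hpz hqz
    obtain ⟨w, hw⟩ := Finset.card_pos.mp (show 0 < (((Δ.erase z).erase p).erase q).card by
      have := Finset.pred_card_le_card_erase (s := Δ) (a := z)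
      have := Finset.pred_card_le_card_erase (s := Δ.erase z) (a := p)
      have := Finset.pred_card_le_card_erase (s := (Δ.erase z).erase p) (a := q)
      omega)
    simp only [Finset.mem_erase] at hw
    obtain ⟨hwq, hwp, hwz, hwΔ⟩ := hw
    have hs : (swap p q * swap q w).support ⊆ Δ.erase z :=
      support_mul_subset
        (support_swap_subset (Finset.mem_erase.mpr ⟨hpz, hp⟩) (Finset.mem_erase.mpr ⟨hqz, hq⟩))
        (support_swap_subset (Finset.mem_erase.mpr ⟨hqz, hq⟩) (Finset.mem_erase.mpr ⟨hwz, hwΔ⟩))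
    have hsign : Perm.sign (swap p q * swap q w) = 1 := by
      rw [map_mul, Perm.sign_swap hpq, Perm.sign_swap hwq.symm]; decide
    exact ⟨_, hs.trans (Finset.erase_subset _ _), hsign, base hz _ hs hsign,
      by rw [Perm.mul_apply, swap_apply_of_ne_of_ne hpq hwp.symm, swap_apply_left]⟩
  intro σ hσ hs
  have hred : ∀ κ : Perm α, κ.support ⊆ Δ → Perm.sign κ = 1 → Induces G Δ κ → κ x = σ x →
      Induces G Δ σ := by
    intro κ hκ hκs hind hκx
    have h1 : (κ⁻¹ * σ).support ⊆ Δ.erase x := by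
      intro w hw
      refine Finset.mem_erase.mpr ⟨fun e => ?_, support_mul_subset (by rwa [Perm.support_inv]) hσ hw⟩
      subst e
      rw [Perm.mem_support, Perm.mul_apply, ← hκx, Perm.inv_def, Equiv.symm_apply_apply] at hw
      exact hw rfl
    have h2 := base hx _ h1 (by rw [map_mul, map_inv, hκs, hs]; simp)
    simpa using hind.mul (h1.trans (Finset.erase_subset _ _)) h2
  by_cases h0 : σ x = x
  · exact hred 1 (by simp) (map_one _) ⟨1, one_mem G, fun _ _ => rfl⟩ h0.symm
  by_cases h1 : σ x = y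
  · obtain ⟨z, hz⟩ := Finset.card_pos.mp (show 0 < ((Δ.erase x).erase y).card by
      have := Finset.pred_card_le_card_erase (s := Δ) (a := x)
      have := Finset.pred_card_le_card_erase (s := Δ.erase x) (a := y)
      omega)
    simp only [Finset.mem_erase] at hz
    obtain ⟨hzy, hzx, hzΔ⟩ := hz
    obtain ⟨κ₁, s1, g1, i1, e1⟩ := move hy hxΔ hzΔ hzx.symm hxy hzy
    obtain ⟨κ₂, s2, g2, i2, e2⟩ := move hx hzΔ hyΔ hzy hzx hxy.symm
    exact hred (κ₂ * κ₁) (support_mul_subset s2 s1) (by rw [map_mul, g2, g1]; rfl) (i2.mul s1 i1)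
      (by rw [Perm.mul_apply, e1, e2, h1])
  · obtain ⟨κ, s1, g1, i1, e1⟩ := move hy hxΔ (apply_mem hσ hxΔ) (Ne.symm h0) hxy h1
    exact hred κ s1 g1 i1 e1

theorem double_mul_double {a b c d : α} (hab : a ≠ b) (hac : a ≠ c) (had : a ≠ d) (hbc : b ≠ c)
    (hbd : b ≠ d) (hcd : c ≠ d) :
    swap a b * swap c d * (swap a c * swap b d) = swap a d * swap b c := by
  ext z
  simp only [Perm.mul_apply]
  by_cases h1 : z = a
  · subst h1; simp [swap_apply_of_ne_of_ne, hab, hac, had, hbc, hbd, hcd, hab.symm, hac.symm, had.symm, hbc.symm, hbd.symm, hcd.symm]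
  by_cases h2 : z = b
  · subst h2; simp [swap_apply_of_ne_of_ne, hab, hac, had, hbc, hbd, hcd, hab.symm, hac.symm, had.symm, hbc.symm, hbd.symm, hcd.symm]
  by_cases h3 : z = c
  · subst h3; simp [swap_apply_of_ne_of_ne, hab, hac, had, hbc, hbd, hcd, hab.symm, hac.symm, had.symm, hbc.symm, hbd.symm, hcd.symm]
  by_cases h4 : z = d
  · subst h4; simp [swap_apply_of_ne_of_ne, hab, hac, had, hbc, hbd, hcd, hab.symm, hac.symm, had.symm, hbc.symm, hbd.symm, hcd.symm]
  simp [swap_apply_of_ne_of_ne, h1, h2, h3, h4]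

/-- An even outside with an odd pointwise stabiliser of order at least three does not occur. -/
theorem Reduced.not_even_outside (hr : Reduced G m) (hm : 4 ≤ m) (hR : R.card = m)
    (hN : Even Rᶜ.card) (hodd : Odd (Nat.card (fixp G R))) (hl : 3 ≤ Nat.card (fixp G R))
    (hbig : 3 ≤ Rᶜ.card) : False := by
  have hlift : ∀ σ : Perm α, Induces G R σ := exists_lift hr.trans hr.lt.le hR.le
  obtain ⟨S, hSR, hS⟩ := Finset.exists_subset_card_eq (s := R) (n := 4) (by omega)
  obtain ⟨a, b, c, d, hab, hac, had, hbc, hbd, hcd, hSe⟩ : ∃ a b c d, a ≠ b ∧ a ≠ c ∧ a ≠ d ∧ b ≠ c ∧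
      b ≠ d ∧ c ≠ d ∧ S = {a, b, c, d} := by
    obtain ⟨a, T, haT, rfl, hT⟩ := Finset.card_eq_succ.mp hS
    obtain ⟨b, c, d, hbc, hbd, hcd, rfl⟩ := Finset.card_eq_three.mp hT
    simp only [Finset.mem_insert, Finset.mem_singleton, not_or] at haT
    exact ⟨a, b, c, d, haT.1, haT.2.1, haT.2.2, hbc, hbd, hcd, rfl⟩
  subst hSe
  simp only [Finset.insert_subset_iff, Finset.singleton_subset_iff] at hSR
  obtain ⟨ha, hb, hc, hd⟩ := hSR
  -- a transposition lift yields double lifts with two more fixed points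
  have conv : ∀ t ∈ G, Agree R t (swap a b) → t * t = 1 → ∀ c' ∈ R, ∀ d' ∈ R, c' ≠ d' → a ≠ c' →
      a ≠ d' → b ≠ c' → b ≠ d' → ∃ u ∈ G, Agree R u (swap a b * swap c' d') ∧ u * u = 1 ∧
        (Rᶜ.filter fun w => u w = w).card = (Rᶜ.filter fun w => t w = w).card + 2 := by
    intro t ht hta ht2 c' hc' d' hd' hcd' hac' had' hbc' hbd'
    obtain ⟨x, hx, hxt⟩ : ∃ x ∈ Rᶜ, t x ≠ x := by
      by_contra hcon
      push Not at hcon
      have := hr.fix_swap_le hR ha hb hab ht hta
      rw [Finset.filter_true_of_mem hcon] at this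
      omega
    rw [Finset.mem_compl] at hx
    have hx' : t x ∉ R := hta.not_mem (support_swap_subset ha hb) hx
    have hne : ∀ z ∈ R, z ≠ x ∧ z ≠ t x := fun z hz => ⟨fun e => hx (e ▸ hz), fun e => hx' (e ▸ hz)⟩
    set π := swap x c' * swap (t x) d' with hπ
    set R₁ := insert x (insert (t x) ((R.erase c').erase d')) with hR₁
    have hce : d' ∈ R.erase c' := Finset.mem_erase.mpr ⟨hcd'.symm, hd'⟩
    have h₁ : R₁.card = m := by
      have e1 := Finset.card_erase_add_one hce
      have e2 := Finset.card_erase_add_one hc'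
      rw [hR₁, Finset.card_insert_of_notMem (by simp [hxt.symm, hx]),
        Finset.card_insert_of_notMem (by simp [hx'])]
      omega
    obtain ⟨g, hg, hgx⟩ := exists_map hr.trans hr.lt.le h₁.le π π.injective.injOn
    have px : π x = c' := by
      rw [hπ, Perm.mul_apply, swap_apply_of_ne_of_ne hxt.symm (hne d' hd').1.symm, swap_apply_left]
    have ptx : π (t x) = d' := by
      rw [hπ, Perm.mul_apply, swap_apply_left, swap_apply_of_ne_of_ne (hne d' hd').1 hcd'.symm]
    have prest : ∀ z ∈ R, z ≠ c' → z ≠ d' → π z = z := fun z hz hzc hzd => by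
      rw [hπ, Perm.mul_apply, swap_apply_of_ne_of_ne (hne z hz).2 hzd,
        swap_apply_of_ne_of_ne (hne z hz).1 hzc]
    have memR₁ : ∀ z, z ∈ R₁ ↔ z = x ∨ z = t x ∨ (z ∈ R ∧ z ≠ c' ∧ z ≠ d') := fun z => by
      simp only [hR₁, Finset.mem_insert, Finset.mem_erase]
      tauto
    have gmem : ∀ z ∈ R₁, g z ∈ R := fun z hz => by
      rw [hgx z hz]
      rcases (memR₁ z).mp hz with rfl | rfl | ⟨hzR, hzc, hzd⟩
      · rw [px]; exact hc'
      · rw [ptx]; exact hd'
      · rw [prest z hzR hzc hzd]; exact hzR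
    have gsurj : ∀ y ∈ R, ∃ z ∈ R₁, g z = y := fun y hy => by
      have he : R₁.image g = R := Finset.eq_of_subset_of_card_le
        (Finset.image_subset_iff.mpr gmem)
        (by rw [Finset.card_image_of_injective _ g.injective, h₁, hR])
      rw [← he] at hy
      exact Finset.mem_image.mp hy
    have ttx : t (t x) = x := by rw [← Perm.mul_apply, ht2, Perm.one_apply]
    refine ⟨g * t * g⁻¹, mul_mem (mul_mem hg ht) (inv_mem hg), fun y hy => ?_, ?_, ?_⟩
    · obtain ⟨z, hz, rfl⟩ := gsurj y hy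
      rw [Perm.mul_apply, Perm.mul_apply, Perm.inv_def, Equiv.symm_apply_apply, hgx z hz]
      rcases (memR₁ z).mp hz with rfl | rfl | ⟨hzR, hzc, hzd⟩
      · rw [hgx _ ((memR₁ _).mpr (Or.inr (Or.inl rfl))), ptx, px, Perm.mul_apply, swap_apply_left,
          swap_apply_of_ne_of_ne had'.symm hbd'.symm]
      · rw [ttx, hgx _ ((memR₁ _).mpr (Or.inl rfl)), px, ptx, Perm.mul_apply, swap_apply_right,
          swap_apply_of_ne_of_ne hac'.symm hbc'.symm]
      · rw [prest z hzR hzc hzd, hta z hzR, Perm.mul_apply, swap_apply_of_ne_of_ne hzc hzd]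
        have hw : swap a b z ∈ R := apply_mem (support_swap_subset ha hb) hzR
        have h1 : swap a b z ≠ c' := fun e => hzc (by
          have := congrArg (swap a b) e
          rwa [swap_apply_self, swap_apply_of_ne_of_ne hac'.symm hbc'.symm] at this)
        have h2 : swap a b z ≠ d' := fun e => hzd (by
          have := congrArg (swap a b) e
          rwa [swap_apply_self, swap_apply_of_ne_of_ne had'.symm hbd'.symm] at this)
        rw [hgx _ ((memR₁ _).mpr (Or.inr (Or.inr ⟨hw, h1, h2⟩))), prest _ hw h1 h2]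
    · calc g * t * g⁻¹ * (g * t * g⁻¹) = g * (t * t) * g⁻¹ := by group
        _ = 1 := by rw [ht2]; group
    · have hcd1 : c' ∉ R₁ ∧ d' ∉ R₁ := by simp [memR₁, (hne c' hc').1, (hne c' hc').2, (hne d' hd').1, (hne d' hd').2]
      have e : (Rᶜ.filter fun w => (g * t * g⁻¹) w = w) =
          (insert c' (insert d' (Rᶜ.filter fun w => t w = w))).image g := by
        ext y
        constructor
        · intro hy
          obtain ⟨hyR, hfix⟩ := Finset.mem_filter.mp hy
          rw [Finset.mem_compl] at hyR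
          refine Finset.mem_image.mpr ⟨g⁻¹ y, ?_, by simp⟩
          have hz1 : g⁻¹ y ∉ R₁ := fun h => hyR (by simpa using gmem _ h)
          have hz2 : t (g⁻¹ y) = g⁻¹ y := g.injective (by simpa [Perm.mul_apply] using hfix)
          simp only [Finset.mem_insert, Finset.mem_filter, Finset.mem_compl, memR₁] at hz1 ⊢
          by_cases hzR : g⁻¹ y ∈ R
          · tauto
          · exact Or.inr (Or.inr ⟨hzR, hz2⟩)
        · intro hy
          obtain ⟨z, hz, rfl⟩ := Finset.mem_image.mp hy
          have hzfix : t z = z ∧ z ∉ R₁ := by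
            simp only [Finset.mem_insert, Finset.mem_filter, Finset.mem_compl] at hz
            rcases hz with rfl | rfl | ⟨hzR, hzt⟩
            · exact ⟨by rw [hta _ hc', swap_apply_of_ne_of_ne hac'.symm hbc'.symm], hcd1.1⟩
            · exact ⟨by rw [hta _ hd', swap_apply_of_ne_of_ne had'.symm hbd'.symm], hcd1.2⟩
            · refine ⟨hzt, fun h => ?_⟩
              rcases (memR₁ z).mp h with rfl | rfl | h
              · exact hxt hzt
              · rw [ttx] at hzt; exact hxt hzt.symm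
              · exact hzR h.1
          refine Finset.mem_filter.mpr ⟨Finset.mem_compl.mpr fun h => ?_, by simp [Perm.mul_apply, hzfix.1]⟩
          obtain ⟨z', hz', he⟩ := gsurj _ h
          exact hzfix.2 (g.injective he ▸ hz')
      rw [e, Finset.card_image_of_injective _ g.injective,
        Finset.card_insert_of_notMem (by simp [hcd', hc']), Finset.card_insert_of_notMem (by simp [hd'])]
  -- transposition lifts fix no point or two outside points
  have hinvol : ∀ σ : Perm α, σ.support ⊆ R → σ * σ = 1 → ∃ t ∈ G, Agree R t σ ∧ t * t = 1 := by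
    intro σ hσ h2
    obtain ⟨g, hg, hga⟩ := hlift σ
    obtain ⟨j, -, e1, e2⟩ := exists_invol_lift hodd hσ h2 hg hga
    exact ⟨_, pow_mem hg j, e2, e1⟩
  obtain ⟨t, ht, hta, ht2⟩ := hinvol _ (support_swap_subset ha hb) (swap_mul_self a b)
  have hpar : (Rᶜ.filter fun w => t w = w).card % 2 = 0 := by
    rw [card_fix_outside_parity ht2 (support_swap_subset ha hb) hta, Nat.even_iff.mp hN]
  have hf := hr.fix_swap_le hR ha hb hab ht hta
  have s1 := support_mul_subset (support_swap_subset ha hb) (support_swap_subset hc hd)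
  have hsign : Perm.sign (swap a b * swap c d) = 1 := by
    rw [map_mul, Perm.sign_swap hab, Perm.sign_swap hcd]; decide
  rcases Nat.eq_zero_or_pos (Rᶜ.filter fun w => t w = w).card with h0 | hpos
  · -- the three double transpositions all invert
    have inv2 : ∀ {p q r s : α}, p ∈ R → q ∈ R → r ∈ R → s ∈ R → p ≠ q → r ≠ s → p ≠ r → p ≠ s →
        q ≠ r → q ≠ s → ∃ u ∈ G, Agree R u (swap p q * swap r s) ∧ u * u = 1 ∧
          ∀ h ∈ fixp G R, u * h * u = h⁻¹ := by
      intro p q r s hp hq hr' hs hpq hrs hpr hps hqr hqs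
      obtain ⟨π, hπ, hπa, hπb⟩ := exists_pair_perm ha hb hp hq hab hpq
      obtain ⟨w, hw, hwa⟩ := hlift π
      have hinvw : (π⁻¹).support ⊆ R := by rwa [Perm.support_inv]
      have e1 : π⁻¹ p = a := by rw [← hπa, Perm.inv_def, Equiv.symm_apply_apply]
      have e2 : π⁻¹ q = b := by rw [← hπb, Perm.inv_def, Equiv.symm_apply_apply]
      obtain ⟨u, hu, hua, hu2, hucard⟩ := conv t ht hta ht2 (π⁻¹ r) (apply_mem hinvw hr') (π⁻¹ s)
        (apply_mem hinvw hs) (fun e => hrs (π⁻¹.injective e)) (fun e => hpr (π⁻¹.injective (e1.trans e)))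
        (fun e => hps (π⁻¹.injective (e1.trans e))) (fun e => hqr (π⁻¹.injective (e2.trans e)))
        (fun e => hqs (π⁻¹.injective (e2.trans e)))
      have hsu := support_mul_subset (support_swap_subset ha hb)
        (support_swap_subset (apply_mem hinvw hr') (apply_mem hinvw hs))
      have hinvu : ∀ h ∈ fixp G R, u * h * u = h⁻¹ := by
        obtain ⟨y, hy⟩ := Finset.card_pos.mp (show 0 < (Rᶜ.filter fun w => u w = w).card by omega)
        exact hr.inverts hR hodd hsu hu hua hu2 hy (by omega)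
      refine ⟨w * u * w⁻¹, mul_mem (mul_mem hw hu) (inv_mem hw), ?_, ?_, fun h hh => ?_⟩
      · have := Agree.conj hsu hπ hua hwa
        have hcalc : π * (swap a b * swap (π⁻¹ r) (π⁻¹ s)) * π⁻¹ = swap p q * swap r s := by
          rw [← hπa, ← hπb, swap_apply_apply π a b, swap_apply_apply π⁻¹ r s]
          group
        rwa [hcalc] at this
      · calc w * u * w⁻¹ * (w * u * w⁻¹) = w * (u * u) * w⁻¹ := by group
          _ = 1 := by rw [hu2]; group
      · have hh' : w⁻¹ * h * w ∈ fixp G R := by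
          simpa using conj_mem_fixp (g := w⁻¹) hinvw (inv_mem hw) (hwa.inv hπ) hh
        calc w * u * w⁻¹ * h * (w * u * w⁻¹) = w * (u * (w⁻¹ * h * w) * u) * w⁻¹ := by group
          _ = w * (w⁻¹ * h * w)⁻¹ * w⁻¹ := by rw [hinvu _ hh']
          _ = h⁻¹ := by group
    obtain ⟨u, hu, hua, hu2, hui⟩ := inv2 ha hb hc hd hab hcd hac had hbc hbd
    obtain ⟨v, hv, hva, hv2, hvi⟩ := inv2 ha hc hb hd hac hbd hab had hbc.symm hcd
    obtain ⟨w, hw, hwa, hw2, hwi⟩ := inv2 ha hd hb hc had hbc hab hac hbd.symm hcd.symm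
    have s2 := support_mul_subset (support_swap_subset ha hc) (support_swap_subset hb hd)
    have huva : Agree R (u * v) (swap a d * swap b c) := by
      exact double_mul_double hab hac had hbc hbd hcd ▸ hua.mul s2 hva
    obtain ⟨h, hh, hh1⟩ : ∃ h ∈ fixp G R, h ≠ 1 := by
      by_contra hcon
      push Not at hcon
      have : fixp G R = ⊥ := (Subgroup.eq_bot_iff_forall _).mpr hcon
      rw [this, Subgroup.card_bot] at hl
      omega
    have hk := inv_mul_mem_fixp hw (mul_mem hu hv) hwa huva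
    set k := w⁻¹ * (u * v)
    have hcomm : k * h = h * k := by
      have e1 := hui _ (mul_mem hk hh)
      have e2 : u * (k * h) * u = (u * k * u) * (u * h * u) := by
        simp only [mul_assoc]
        rw [← mul_assoc u u, hu2, one_mul]
      rw [e2, hui k hk, hui h hh, ← mul_inv_rev, inv_inj] at e1
      exact e1.symm
    have huv : u * v * h * (u * v)⁻¹ = h := by
      have hui' : u⁻¹ = u := inv_eq_of_mul_eq_one_right hu2
      have hvi' : v⁻¹ = v := inv_eq_of_mul_eq_one_right hv2
      calc u * v * h * (u * v)⁻¹ = u * (v * h * v) * u := by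
            rw [mul_inv_rev, hui', hvi']; simp only [mul_assoc]
        _ = h := by rw [hvi h hh, hui _ (inv_mem hh), inv_inv]
    have hwk : u * v = w * k := by simp [k]
    rw [hwk] at huv
    have hw' : w⁻¹ = w := inv_eq_of_mul_eq_one_right hw2
    have : h⁻¹ = h :=
      calc h⁻¹ = w * h * w⁻¹ := by rw [hw', hwi h hh]
        _ = w * (k * h * k⁻¹) * w⁻¹ := by rw [hcomm, mul_inv_cancel_right]
        _ = w * k * h * (w * k)⁻¹ := by group
        _ = h := huv
    exact hh1 (sq_eq_one_odd hodd hh (by rwa [inv_eq_iff_mul_eq_one] at this))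
  · -- a double lift centralises, so fixes whole orbits, yet fixes four points
    obtain ⟨x, hx⟩ := Finset.card_pos.mp hpos
    obtain ⟨-, hsgn⟩ := hr.conj_sign hR ha hb hab ht hta ht2
      (hr.inverts hR hodd (support_swap_subset ha hb) ht hta ht2 hx hf)
    obtain ⟨u, hu, hua, -, hucard⟩ := conv t ht hta ht2 c hc d hd hcd hac had hbc hbd
    set F := Rᶜ.filter fun w => u w = w with hF
    have hF4 : F.card = 4 := by omega
    obtain ⟨y, hy⟩ := Finset.card_pos.mp (show 0 < F.card by omega)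
    have horb : ∀ y ∈ F, ∀ z, Orb G R y z → z ∈ F := by
      intro y hy z hyz
      obtain ⟨hyR, hyu⟩ := Finset.mem_filter.mp hy
      obtain ⟨s, -, hs, hmem⟩ := hr.orb_image_card hR (Finset.mem_compl.mp hyR)
      refine Finset.mem_filter.mpr ⟨hs ((hmem z).mpr hyz), ?_⟩
      obtain ⟨h, hh, rfl⟩ := hyz
      have := hsgn _ s1 u hu hua h hh
      rw [if_pos hsign, mul_inv_eq_iff_eq_mul] at this
      rw [← Perm.mul_apply, this, Perm.mul_apply, hyu]
    obtain ⟨s, hsc, -, hsm⟩ := hr.orb_image_card hR (Finset.mem_compl.mp (Finset.mem_filter.mp hy).1)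
    have hsF : s ⊆ F := fun z hz => horb y hy z ((hsm z).mp hz)
    have hle := Finset.card_le_card hsF
    have hl3 : Nat.card (fixp G R) = 3 := by
      rcases Nat.lt_or_ge (Nat.card (fixp G R)) 4 with h | h
      · omega
      · exfalso
        have : Nat.card (fixp G R) = 4 := by omega
        rw [this] at hodd
        exact absurd hodd (by decide)
    obtain ⟨z, hz⟩ := Finset.card_pos.mp (show 0 < (F \ s).card by
      rw [Finset.card_sdiff_of_subset hsF]; omega)
    obtain ⟨hzF, hzs⟩ := Finset.mem_sdiff.mp hz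
    obtain ⟨s', hsc', -, hsm'⟩ := hr.orb_image_card hR (Finset.mem_compl.mp (Finset.mem_filter.mp hzF).1)
    have hd' : Disjoint s s' := Finset.disjoint_left.mpr fun q h1 h2 =>
      hzs ((hsm z).mpr (((hsm q).mp h1).trans ((hsm' q).mp h2).symm))
    have := Finset.card_le_card (Finset.union_subset hsF (fun q hq => horb z hzF q ((hsm' q).mp hq) : s' ⊆ F))
    rw [Finset.card_union_of_disjoint hd'] at this
    omega

theorem Reduced.exists_altSet (hr : Reduced G m) (hm : 4 ≤ m) :
    ∃ Δ : Finset α, Δ.card = m + 1 ∧ AltSet G Δ := by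
  obtain ⟨R, -, hR⟩ := Finset.exists_subset_card_eq (s := (Finset.univ : Finset α)) (n := m)
    (by rw [Finset.card_univ]; exact hr.lt.le)
  have hN0 : 0 < Rᶜ.card := by
    rw [Finset.card_compl, hR]; have := hr.lt; omega
  have hcompl : ∀ R' : Finset α, R'.card = m → R'ᶜ.card = Rᶜ.card := fun R' h => by
    rw [Finset.card_compl, Finset.card_compl, h, hR]
  have hfix : ∀ R' : Finset α, R'.card = m → Nat.card (fixp G R') = Nat.card (fixp G R) :=
    fun R' h => card_fixp_eq hr.trans hr.lt.le h hR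
  by_cases hA : ∀ R' : Finset α, R'.card = m → TwoOrb G R'
  · obtain ⟨x, hx⟩ := Finset.card_pos.mp hN0
    rw [Finset.mem_compl] at hx
    have hc : (insert x R).card = m + 1 := by rw [Finset.card_insert_of_notMem hx, hR]
    have hG : ∀ z ∈ insert x R, Good G ((insert x R).erase z) z := fun z hz => by
      have hz' : ((insert x R).erase z).card = m := by rw [Finset.card_erase_of_mem hz, hc]; omega
      exact hr.good_of_twoOrb (by omega) hz' (hA _ hz') (Finset.notMem_erase z _)
    obtain ⟨y, hy⟩ := Finset.card_pos.mp (show 0 < R.card by omega)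
    exact ⟨_, hc, altSet_of_two_good (by omega) (Finset.mem_insert_self x R)
      (Finset.mem_insert_of_mem hy) (fun e => hx (e ▸ hy)) (hG x (Finset.mem_insert_self x R))
      (hG y (Finset.mem_insert_of_mem hy))⟩
  have hodd : Odd (Nat.card (fixp G R)) := by
    rw [← Nat.not_even_iff_odd]
    exact fun h => hA fun R' hR' => hr.twoOrb_of_even (by omega) hR' (by rwa [hfix R' hR'])
  have hbig : 3 * Nat.card (fixp G R) ≤ Rᶜ.card := by
    by_contra h
    exact hA fun R' hR' => hr.twoOrb_of_le hR' (by rw [hfix R' hR', hcompl R' hR']; omega)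
  have hl0 : 0 < Nat.card (fixp G R) := Nat.card_pos
  rcases Nat.even_or_odd Rᶜ.card with hN | hN
  · exfalso
    rcases Nat.lt_or_ge (Nat.card (fixp G R)) 2 with h1 | h2
    · have := (hr.sharp_bound hm hR (by omega)).2 hN
      omega
    · refine hr.not_even_outside hm hR hN hodd ?_ (by omega)
      rcases hodd with ⟨j, hj⟩
      omega
  obtain ⟨x, hgx, hall⟩ := hr.exists_common hN hodd hm hR
  have hx := hgx.1
  obtain ⟨a, ha, b, hb, hab⟩ := Finset.one_lt_card.mp (show 1 < R.card by omega)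
  obtain ⟨c, hc⟩ := Finset.card_pos.mp (show 0 < ((R.erase a).erase b).card by
    have := Finset.pred_card_le_card_erase (s := R) (a := a)
    have := Finset.pred_card_le_card_erase (s := R.erase a) (a := b)
    omega)
  simp only [Finset.mem_erase] at hc
  obtain ⟨hcb, hca, hcR⟩ := hc
  have hxa : x ≠ a := fun e => hx (e ▸ ha)
  set R' := (insert x R).erase a with hR'def
  have hc1 : (insert x R).card = m + 1 := by rw [Finset.card_insert_of_notMem hx, hR]
  have hR' : R'.card = m := by
    rw [hR'def, Finset.card_erase_of_mem (Finset.mem_insert_of_mem ha), hc1]; omega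
  have hN' : Odd R'ᶜ.card := by rwa [hcompl R' hR']
  have hodd' : Odd (Nat.card (fixp G R')) := by rwa [hfix R' hR']
  obtain ⟨x', hgx', hall'⟩ := hr.exists_common hN' hodd' hm hR'
  obtain ⟨t, ht, hta, -, htx, -⟩ := hr.sorb_fixing hN hodd hR hb hcR hcb.symm (hall b hb c hcR hcb.symm)
  have hbR' : b ∈ R' := Finset.mem_erase.mpr ⟨hab.symm, Finset.mem_insert_of_mem hb⟩
  have hcR' : c ∈ R' := Finset.mem_erase.mpr ⟨hca, Finset.mem_insert_of_mem hcR⟩
  have hta' : Agree R' t (swap b c) := fun w hw => by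
    obtain ⟨-, hw⟩ := Finset.mem_erase.mp hw
    rcases Finset.mem_insert.mp hw with rfl | hw
    · rw [htx, swap_apply_of_ne_of_ne (fun e => hx (by rw [e]; exact hb)) (fun e => hx (by rw [e]; exact hcR))]
    · exact hta w hw
  have haR' : a ∉ R' := Finset.notMem_erase a _
  have hta_a : t a = a := by rw [hta a ha, swap_apply_of_ne_of_ne hab hca.symm]
  have hsa : SOrb G R' b c a := ⟨haR', fun g hg hga => by
    have := orb_of_agree (support_swap_subset hbR' hcR') hg ht hga hta' a
    rwa [hta_a] at this⟩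
  have hao := hr.sorb_unique hN' hodd' hR' hbR' hcR' hcb.symm hsa (hall' b hbR' c hcR' hcb.symm)
  have hga : Good G R' a := good_of_orb haR' fun σ hσ hs => by
    obtain ⟨g, hg, hga, hgx''⟩ := hgx'.2 σ hσ hs
    refine ⟨g, hg, hga, ?_⟩
    have := hao.map hσ hg hga
    rw [hgx''] at this
    exact this.trans hao.symm
  refine ⟨_, hc1, altSet_of_two_good (by omega) (Finset.mem_insert_self x R)
    (Finset.mem_insert_of_mem ha) hxa (by rwa [Finset.erase_insert hx]) hga⟩

/-- The points fixed by every element of `Q`. -/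
noncomputable def fixF (Q : Subgroup (Perm α)) : Finset α := by
  classical exact Finset.univ.filter fun x => ∀ h ∈ Q, h x = x

theorem mem_fixF {Q : Subgroup (Perm α)} {x : α} : x ∈ fixF Q ↔ ∀ h ∈ Q, h x = x := by
  simp [fixF]

/-- `Q` is not properly contained in a `p`-subgroup of `K`. -/
def MaxP (p : ℕ) (K Q : Subgroup (Perm α)) : Prop :=
  Q ≤ K ∧ IsPGroup p Q ∧ ∀ P : Subgroup (Perm α), Q ≤ P → P ≤ K → IsPGroup p P → P = Q

theorem MaxP.exists_conj {p : ℕ} [Fact p.Prime] {K Q Q' : Subgroup (Perm α)} (h : MaxP p K Q)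
    (hle : Q' ≤ K) (hp : IsPGroup p Q') (hc : Nat.card Q' = Nat.card Q) :
    ∃ k ∈ K, Q.map (MulAut.conj k).toMonoidHom = Q' := by
  obtain ⟨hQK, hQp, hmax⟩ := h
  obtain ⟨S, hS⟩ := (hQp.of_equiv (Subgroup.subgroupOfEquivOfLe hQK).symm).exists_le_sylow
  obtain ⟨S', hS'⟩ := (hp.of_equiv (Subgroup.subgroupOfEquivOfLe hle).symm).exists_le_sylow
  have hSQ : (S : Subgroup K).map K.subtype = Q := by
    refine hmax _ ?_ ?_ (S.2.map _)
    · rw [← Subgroup.map_subgroupOf_eq_of_le hQK]; exact Subgroup.map_mono hS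
    · exact Subgroup.map_subtype_le _
  obtain ⟨k, rfl⟩ := MulAction.exists_smul_eq K S S'
  refine ⟨k, k.2, ?_⟩
  symm
  refine Subgroup.eq_of_le_of_card_ge ?_ ?_
  · intro x hx
    have h1 : (⟨x, hle hx⟩ : K) ∈ ((k • S : Sylow p K) : Subgroup K) :=
      hS' (Subgroup.mem_subgroupOf.mpr hx)
    rw [Sylow.coe_subgroup_smul, Subgroup.mem_pointwise_smul_iff_inv_smul_mem] at h1
    refine Subgroup.mem_map.mpr ⟨(k : Perm α)⁻¹ * x * k, ?_, by simp [mul_assoc]⟩
    rw [← hSQ]
    exact Subgroup.mem_map.mpr ⟨_, h1, by simp [MulAut.smul_def]⟩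
  · rw [hc, Subgroup.card_map_of_injective (MulAut.conj (k : Perm α)).injective]

theorem exists_altSet_aux : ∀ (n : ℕ) (α : Type u) [Fintype α] [DecidableEq α]
    (G : Subgroup (Perm α)) (m : ℕ), Fintype.card α = n → 4 ≤ m → m < n →
      IsMultiplyPretransitive G α m → ∃ Δ : Finset α, Δ.card = m + 1 ∧ AltSet G Δ := by
  intro n
  induction n using Nat.strong_induction_on with
  | _ n ih =>
  intro α _ _ G m hn hm hmn ht
  classical
  by_cases hr : ∀ g ∈ G, ∀ S : Finset α, m + 1 ≤ S.card → (∀ x ∈ S, g x = x) → g = 1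
  · exact Reduced.exists_altSet ⟨ht, hn ▸ hmn, hr⟩ hm
  push Not at hr
  obtain ⟨g₀, hg₀, S₀, hS₀, hfix₀, hne₀⟩ := hr
  obtain ⟨p, hp, hpd⟩ := Nat.exists_prime_and_dvd (mt orderOf_eq_one_iff.mp hne₀)
  haveI := Fact.mk hp
  let good : Subgroup (Perm α) → Prop := fun Q => Q ≤ G ∧ IsPGroup p Q ∧ Q ≠ ⊥ ∧ m < (fixF Q).card
  have hex : (Finset.univ.filter good).Nonempty := by
    refine ⟨Subgroup.zpowers (g₀ ^ (orderOf g₀ / p)), Finset.mem_filter.mpr ⟨Finset.mem_univ _,
      Subgroup.zpowers_le.mpr (pow_mem hg₀ _), ?_, ?_, ?_⟩⟩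
    · refine IsPGroup.of_card (n := 1) ?_
      rw [Nat.card_zpowers, orderOf_pow_orderOf_div (orderOf_pos g₀).ne' hpd, pow_one]
    · rw [Ne, Subgroup.zpowers_eq_bot, ← orderOf_eq_one_iff,
        orderOf_pow_orderOf_div (orderOf_pos g₀).ne' hpd]
      exact hp.ne_one
    · refine lt_of_lt_of_le hS₀ (Finset.card_le_card fun x hx => mem_fixF.mpr fun h hh => ?_)
      have : Subgroup.zpowers (g₀ ^ (orderOf g₀ / p)) ≤ stabilizer (Perm α) x := by
        rw [Subgroup.zpowers_le]
        exact pow_mem (MulAction.mem_stabilizer_iff.mpr (hfix₀ x hx)) _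
      exact MulAction.mem_stabilizer_iff.mp (this hh)
  obtain ⟨Q, hQmem, hQmax⟩ := Finset.exists_max_image (Finset.univ.filter good)
    (fun Q => Nat.card Q) hex
  obtain ⟨hQG, hQp, hQne, hQF⟩ := (Finset.mem_filter.mp hQmem).2
  set F := fixF Q with hFdef
  set M : Subgroup (Perm α) := G ⊓ Subgroup.normalizer (Q : Set (Perm α)) with hM
  have hMF : ∀ g ∈ M, ∀ x ∈ F, g x ∈ F := by
    intro g hg x hx
    refine mem_fixF.mpr fun h hh => ?_
    have hh' : g⁻¹ * h * g ∈ Q := by
      have := (Subgroup.mem_normalizer_iff.mp (inv_mem hg.2) h).mp hh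
      rwa [inv_inv] at this
    have h3 := mem_fixF.mp hx _ hh'
    rw [Perm.mul_apply, Perm.mul_apply] at h3
    have h4 := congrArg g h3
    rwa [Perm.inv_def, Equiv.apply_symm_apply] at h4
  let f : M →* Perm F :=
    { toFun := fun g =>
        { toFun := fun x => ⟨(g : Perm α) x, hMF g g.2 x x.2⟩
          invFun := fun x => ⟨(g⁻¹ : M).1 x, hMF _ (g⁻¹ : M).2 x x.2⟩
          left_inv := fun x => Subtype.ext (by simp)
          right_inv := fun x => Subtype.ext (by simp) }
      map_one' := Equiv.ext fun x => Subtype.ext rfl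
      map_mul' := fun g g' => Equiv.ext fun x => Subtype.ext rfl }
  have hcardF : Fintype.card F = F.card := Fintype.card_coe F
  have hFn : F.card < n := by
    rw [← hn]
    obtain ⟨x₀, hx₀⟩ : ∃ x, x ∉ F := by
      by_contra hcon
      push Not at hcon
      exact hQne ((Subgroup.eq_bot_iff_forall _).mpr fun h hh =>
        Equiv.ext fun x => mem_fixF.mp (hcon x) h hh)
    exact Finset.card_lt_univ_of_notMem hx₀
  have hmle : m ≤ Fintype.card α := hn ▸ hmn.le
  have htF : IsMultiplyPretransitive f.range F m := by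
    by_cases hA : ∃ Γ : Finset α, Γ ⊆ F ∧ Γ.card = m ∧ MaxP p (fixp G Γ) Q
    · obtain ⟨Γ, hΓF, hΓ, hmaxp⟩ := hA
      let d : Fin m ↪ F := ⟨fun i => ⟨(Γ.equivFinOfCardEq hΓ).symm i, hΓF ((Γ.equivFinOfCardEq hΓ).symm i).2⟩,
        fun i j h => (Γ.equivFinOfCardEq hΓ).symm.injective (Subtype.ext (congrArg (fun z : F => (z : α)) h))⟩
      have hd : ∀ x ∈ Γ, ∃ i, ((d i : F) : α) = x :=
        fun x hx => ⟨Γ.equivFinOfCardEq hΓ ⟨x, hx⟩, by
          show (((Γ.equivFinOfCardEq hΓ).symm (Γ.equivFinOfCardEq hΓ ⟨x, hx⟩)) : α) = x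
          rw [Equiv.symm_apply_apply]⟩
      have reach : ∀ e : Fin m ↪ F, ∃ q : f.range, q • d = e := by
        intro e
        obtain ⟨g, hg, hge⟩ := exists_map_fix ht hmle (R₀ := ∅) (by simp)
          (d.trans (Function.Embedding.subtype _)) (e.trans (Function.Embedding.subtype _))
          (by simp) (by simp)
        have hgG := (mem_fixp.mp hg).1
        set Γ' : Finset α := Γ.map g.toEmbedding
        have hΓ'e : ∀ x ∈ Γ', ∃ i, ((e i : F) : α) = x := by
          intro x hx
          obtain ⟨y, hy, rfl⟩ := Finset.mem_map.mp hx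
          obtain ⟨i, rfl⟩ := hd y hy
          exact ⟨i, (hge i).symm⟩
        have hQ'max : MaxP p (fixp G Γ') (Q.map (MulAut.conj g).toMonoidHom) := by
          refine ⟨?_, hQp.map _, fun P hP hPK hPp => ?_⟩
          · rintro x ⟨y, hy, rfl⟩
            refine mem_fixp.mpr ⟨mul_mem (mul_mem hgG (hQG hy)) (inv_mem hgG), fun z hz => ?_⟩
            obtain ⟨w, hw, rfl⟩ := Finset.mem_map.mp hz
            simp [Perm.mul_apply, (mem_fixp.mp (hmaxp.1 hy)).2 w hw]
          · have h1 := hmaxp.2.2 (P.map (MulAut.conj g⁻¹).toMonoidHom) (fun y hy => ?_) ?_ (hPp.map _)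
            · rw [← h1, Subgroup.map_map]
              ext x
              simp [Subgroup.mem_map, mul_assoc]
            · exact Subgroup.mem_map.mpr ⟨_, hP (Subgroup.mem_map_of_mem _ hy), by simp [mul_assoc]⟩
            · rintro x ⟨y, hy, rfl⟩
              refine mem_fixp.mpr ⟨mul_mem (mul_mem (inv_mem hgG) (mem_fixp.mp (hPK hy)).1)
                (inv_mem (inv_mem hgG)), fun w hw => ?_⟩
              have := (mem_fixp.mp (hPK hy)).2 (g w) (Finset.mem_map_of_mem _ hw)
              simp [Perm.mul_apply, this]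
        obtain ⟨k, hk, hkQ⟩ := hQ'max.exists_conj (Q' := Q) (fun y hy => mem_fixp.mpr ⟨hQG hy, fun x hx => by
            obtain ⟨i, rfl⟩ := hΓ'e x hx
            exact mem_fixF.mp (e i).2 y hy⟩) hQp
          (Subgroup.card_map_of_injective (MulAut.conj g).injective).symm
        have hM' : k * g ∈ M := by
          refine ⟨mul_mem (mem_fixp.mp hk).1 hgG, Subgroup.mem_normalizer_iff.mpr fun y => ?_⟩
          rw [Subgroup.map_map] at hkQ
          constructor
          · intro hy
            rw [← hkQ]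
            exact Subgroup.mem_map.mpr ⟨y, hy, by simp [mul_assoc]⟩
          · intro hy
            rw [← hkQ] at hy
            obtain ⟨y', hy', he⟩ := Subgroup.mem_map.mp hy
            simp only [MonoidHom.coe_comp, MulEquiv.toMonoidHom_eq_coe, MonoidHom.coe_coe,
              Function.comp_apply, MulAut.conj_apply] at he
            have he' : (k * g) * y' * (k * g)⁻¹ = (k * g) * y * (k * g)⁻¹ := by
              rw [← he]; simp [mul_assoc]
            rwa [← mul_left_cancel (mul_right_cancel he')]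
        refine ⟨⟨f ⟨k * g, hM'⟩, ⟨_, rfl⟩⟩, DFunLike.ext _ _ fun i => Subtype.ext ?_⟩
        show (k * g) ((d i : F) : α) = (e i : α)
        rw [Perm.mul_apply, show g ((d i : F) : α) = (e i : α) from hge i]
        refine (mem_fixp.mp hk).2 _ (Finset.mem_map.mpr ⟨(d i : α), ((Γ.equivFinOfCardEq hΓ).symm i).2, hge i⟩)
      refine ⟨fun e e' => ?_⟩
      obtain ⟨q, hq⟩ := reach e
      obtain ⟨q', hq'⟩ := reach e'
      refine ⟨q' * q⁻¹, ?_⟩
      rw [← hq, ← hq']
      ext i
      show ((q' : Perm F) * (q : Perm F)⁻¹) ((q : Perm F) (d i)) = (((q' : Perm F) (d i)) : α)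
      simp [Perm.mul_apply]
    · push Not at hA
      refine Cfsg.Agent.S0743.result f.range hp (by omega) (by omega) fun s hs => ?_
      set Γ : Finset α := s.map (Function.Embedding.subtype _) with hΓdef
      have hΓF : Γ ⊆ F := fun x hx => by
        obtain ⟨y, -, rfl⟩ := Finset.mem_map.mp hx; exact y.2
      have hΓ : Γ.card = m := by rw [hΓdef, Finset.card_map, hs]
      have hQK : Q ≤ fixp G Γ := fun y hy =>
        mem_fixp.mpr ⟨hQG hy, fun x hx => mem_fixF.mp (hΓF hx) y hy⟩
      obtain ⟨P, hQP, hPK, hPp, hPne⟩ : ∃ P : Subgroup (Perm α), Q ≤ P ∧ P ≤ fixp G Γ ∧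
          IsPGroup p P ∧ P ≠ Q := by
        have := hA Γ hΓF hΓ
        unfold MaxP at this
        push Not at this
        exact this hQK hQp
      have : Group.IsNilpotent P := hPp.isNilpotent
      have hlt : Q.subgroupOf P < ⊤ := lt_top_iff_ne_top.mpr fun h =>
        hPne (le_antisymm (Subgroup.subgroupOf_eq_top.mp h) hQP)
      obtain ⟨z, hzN, hzQ⟩ := SetLike.exists_of_lt (Group.normalizerCondition_of_isNilpotent _ hlt)
      set N : Subgroup (Perm α) := P ⊓ Subgroup.normalizer (Q : Set (Perm α))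
      have hzN' : (z : Perm α) ∈ N := by
        refine ⟨z.2, Subgroup.mem_normalizer_iff.mpr fun y => ⟨fun hy => ?_, fun hy => ?_⟩⟩
        · exact (Subgroup.mem_normalizer_iff.mp hzN ⟨y, hQP hy⟩).mp hy
        · have hyP : y ∈ P := by
            have := mul_mem (mul_mem (inv_mem z.2) (hQP hy)) z.2
            simpa [mul_assoc] using this
          exact (Subgroup.mem_normalizer_iff.mp hzN ⟨y, hyP⟩).mpr hy
      have hQN : Q < N := lt_of_le_of_ne (le_inf hQP Subgroup.le_normalizer) fun e =>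
        hzQ (Subgroup.mem_subgroupOf.mpr (e ▸ hzN'))
      have hNfix : fixF N = Γ := by
        have hsub : Γ ⊆ fixF N := fun x hx => mem_fixF.mpr fun h hh => (mem_fixp.mp (hPK hh.1)).2 x hx
        refine (Finset.eq_of_subset_of_card_le hsub ?_).symm
        by_contra hlt'
        have := hQmax N (Finset.mem_filter.mpr ⟨Finset.mem_univ _,
          fun h hh => (mem_fixp.mp (hPK hh.1)).1, hPp.to_le inf_le_left,
          (lt_of_le_of_lt bot_le hQN).ne', by omega⟩)
        exact absurd (Subgroup.eq_of_le_of_card_ge hQN.le this) hQN.ne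
      have hNM : N ≤ M := fun h hh => ⟨(mem_fixp.mp (hPK hh.1)).1, hh.2⟩
      refine ⟨(N.subgroupOf M).map f.rangeRestrict, ((hPp.to_le inf_le_left).of_equiv
        (Subgroup.subgroupOfEquivOfLe hNM).symm).map _, ?_⟩
      ext x
      rw [MulAction.mem_fixedPoints, Finset.mem_coe]
      have hxs : x ∈ s ↔ (x : α) ∈ fixF N := by
        rw [hNfix, hΓdef]
        simp
      rw [hxs, mem_fixF]
      constructor
      · intro h y hy
        exact congrArg (fun w : F => (w : α))
          (h ⟨f.rangeRestrict ⟨y, hNM hy⟩, Subgroup.mem_map_of_mem _ (show (⟨y, hNM hy⟩ : M) ∈ N.subgroupOf M from hy)⟩)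
      · rintro h ⟨q, hq⟩
        obtain ⟨y, hy, rfl⟩ := Subgroup.mem_map.mp hq
        exact Subtype.ext (h y hy)
  obtain ⟨Δ, hΔ, hAlt⟩ := ih F.card hFn F f.range m hcardF hm hQF htF
  refine ⟨Δ.map (Function.Embedding.subtype _), by rw [Finset.card_map, hΔ], fun σ hσ hs => ?_⟩
  have hsupp : ∀ x, σ x ≠ x → x ∈ F := fun x hx => by
    obtain ⟨y, -, rfl⟩ := Finset.mem_map.mp (hσ (Perm.mem_support.mpr hx)); exact y.2
  have hiff : ∀ x, σ x ∈ F ↔ x ∈ F := fun x => by
    by_cases hx : σ x = x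
    · rw [hx]
    · exact iff_of_true (hsupp _ fun h => hx (σ.injective h)) (hsupp x hx)
  obtain ⟨q, hq, hqa⟩ := hAlt (σ.subtypePerm hiff) (fun x hx => by
      have h1 : σ x.1 ≠ x.1 := fun h => (Perm.mem_support.mp hx) (Subtype.ext h)
      obtain ⟨y, hy, hyx⟩ := Finset.mem_map.mp (hσ (Perm.mem_support.mpr h1))
      exact Subtype.ext hyx ▸ hy)
    (by rw [← hs]; convert Perm.sign_subtypePerm σ hiff hsupp)
  obtain ⟨y, rfl⟩ := hq
  refine ⟨y, y.2.1, fun x hx => ?_⟩
  obtain ⟨z, hz, rfl⟩ := Finset.mem_map.mp hx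
  exact congrArg (fun w : F => (w : α)) (hqa z hz)

end Cfsg.Agent.PermGp.LivWag
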