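import Cfsg.Agent.Lib.PermGp.LivWag.Small
import Cfsg.Agent.Lib.PermGp.Homogeneous

/-! The Livingstone–Wagner theorems. -/

set_option autoImplicit false
set_option linter.unusedSectionVars false

namespace Cfsg.Agent.PermGp.LivWag

open MulAction Equiv
open scoped Pointwise

variable {α : Type*} [Fintype α] [DecidableEq α] {G : Subgroup (Perm α)} {j m k : ℕ}

theorem homog_of_isPretransitive (h : IsPretransitive G (Set.powersetCard α j)) : Homog G j := by
  intro A B hA hB
  obtain ⟨g, hg⟩ := (PermGp.homogeneous_iff.mp h) A B hA hB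
  exact ⟨g, g.2, fun x hx => hg ▸ Finset.smul_mem_smul_finset hx⟩

/-- An induced alternating group spreads to all sets under homogeneity. -/
theorem altSet_all (hh : Homog G j) {D : Finset α} (hD : D.card = j) (hA : AltSet G D) :
    ∀ E : Finset α, E.card = j → AltSet G E := by
  intro E hE σ hσ hs
  obtain ⟨g, hg, hgm⟩ := hh E D hE hD
  have himg : E.image g = D := Finset.eq_of_subset_of_card_le (Finset.image_subset_iff.mpr hgm)
    (by rw [Finset.card_image_of_injective _ g.injective, hD, hE])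
  obtain ⟨u, hu, hua⟩ := hA (g * σ * g⁻¹) (fun x hx => by
      rw [← himg, Finset.mem_image]
      refine ⟨g⁻¹ x, hσ ?_, by simp⟩
      rw [Perm.mem_support] at hx ⊢
      intro h
      exact hx (by rw [Perm.mul_apply, Perm.mul_apply, h]; simp))
    (by simp [hs])
  refine ⟨g⁻¹ * u * g, mul_mem (mul_mem (inv_mem hg) hu) hg, fun x hx => ?_⟩
  rw [Perm.mul_apply, Perm.mul_apply, hua _ (hgm x hx)]
  simp [Perm.mul_apply]

/-- All permutations induced on all `j`-sets gives `j`-transitivity. -/
theorem mt_of_induces (hh : Homog G j)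
    (hall : ∀ D : Finset α, D.card = j → ∀ σ : Perm α, σ.support ⊆ D → Induces G D σ) :
    IsMultiplyPretransitive G α j := by
  refine ⟨fun e e' => ?_⟩
  set A := Finset.univ.map e with hAdef
  set B := Finset.univ.map e' with hBdef
  have hA : A.card = j := by simp [hAdef]
  have hB : B.card = j := by simp [hBdef]
  obtain ⟨g, hg, hgm⟩ := hh A B hA hB
  let f : Fin j → B := fun i => ⟨g (e i), hgm _ (Finset.mem_map_of_mem _ (Finset.mem_univ i))⟩
  let f' : Fin j → B := fun i => ⟨e' i, Finset.mem_map_of_mem _ (Finset.mem_univ i)⟩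
  have hf : Function.Bijective f := (Fintype.bijective_iff_injective_and_card f).mpr
    ⟨fun a b h => e.injective (g.injective (congrArg Subtype.val h)), by simp [hB]⟩
  have hf' : Function.Bijective f' := (Fintype.bijective_iff_injective_and_card f').mpr
    ⟨fun a b h => e'.injective (congrArg Subtype.val h), by simp [hB]⟩
  let τ : Perm B := (Equiv.ofBijective f hf).symm.trans (Equiv.ofBijective f' hf')
  obtain ⟨u, hu, hua⟩ := hall B hB (Perm.ofSubtype τ) (fun x hx => by
    by_contra h
    exact (Perm.mem_support.mp hx) (Perm.ofSubtype_apply_of_not_mem τ h))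
  refine ⟨⟨u * g, mul_mem hu hg⟩, DFunLike.ext _ _ fun i => ?_⟩
  show (u * g) (e i) = e' i
  rw [Perm.mul_apply, hua _ (f i).2, Perm.ofSubtype_apply_of_mem _ (f i).2]
  have : τ (f i) = f' i := by
    show (Equiv.ofBijective f' hf') ((Equiv.ofBijective f hf).symm (f i)) = f' i
    rw [Equiv.ofBijective_symm_apply_apply]
    rfl
  exact congrArg Subtype.val this

/-- With homogeneity on `(m+1)`-sets, either `(m+1)`-transitive or nearly everything. -/
theorem mt_or_card_le (ht : IsMultiplyPretransitive G α m) (hm : 4 ≤ m) (hn : m < Fintype.card α)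
    (hh : Homog G (m + 1)) :
    IsMultiplyPretransitive G α (m + 1) ∨ Fintype.card α ≤ m + 2 := by
  obtain ⟨D, hD, hA⟩ := exists_altSet_aux (Fintype.card α) α G m rfl hm hn ht
  have halt := altSet_all hh hD hA
  by_cases hbad : ∀ D : Finset α, D.card = m + 1 → ∀ σ : Perm α, σ.support ⊆ D → Induces G D σ →
      Perm.sign σ = 1
  · exact Or.inr (card_le_of_only_even ht hm hn hh halt hbad)
  left
  push Not at hbad
  obtain ⟨E, hE, τ, hτ, hτi, hτs⟩ := hbad
  have hallE : ∀ σ : Perm α, σ.support ⊆ E → Induces G E σ := by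
    intro σ hσ
    rcases Int.units_eq_one_or (Perm.sign σ) with hs | hs
    · exact halt E hE σ hσ hs
    · have h2 := halt E hE (σ * τ⁻¹) (support_mul_subset hσ (by rwa [Perm.support_inv]))
        (by rw [map_mul, map_inv, hs, (Int.units_eq_one_or _).resolve_left hτs]; simp)
      simpa using h2.mul hτ hτi
  refine mt_of_induces hh fun D' hD' σ hσ => ?_
  obtain ⟨g, hg, hgm⟩ := hh D' E hD' hE
  have himg : D'.image g = E := Finset.eq_of_subset_of_card_le (Finset.image_subset_iff.mpr hgm)
    (by rw [Finset.card_image_of_injective _ g.injective, hD', hE])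
  obtain ⟨u, hu, hua⟩ := hallE (g * σ * g⁻¹) (fun x hx => by
      rw [← himg, Finset.mem_image]
      refine ⟨g⁻¹ x, hσ ?_, by simp⟩
      rw [Perm.mem_support] at hx ⊢
      intro h
      exact hx (by rw [Perm.mul_apply, Perm.mul_apply, h]; simp))
  refine ⟨g⁻¹ * u * g, mul_mem (mul_mem (inv_mem hg) hu) hg, fun x hx => ?_⟩
  rw [Perm.mul_apply, Perm.mul_apply, hua _ (hgm x hx)]
  simp [Perm.mul_apply]

/-- A transitive group homogeneous on pairs and triples is two-transitive. -/
theorem two_transitive_of_homog (ht : IsPretransitive G α) (hn : 4 ≤ Fintype.card α)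
    (hh1 : Homog G 2) (hh2 : Homog G 3) : IsMultiplyPretransitive G α 2 := by
  classical
  by_contra hnt
  obtain ⟨a₀, -, b₀, -, hab₀⟩ := Finset.one_lt_card.mp
    (show 1 < (Finset.univ : Finset α).card by rw [Finset.card_univ]; omega)
  let Rel : α → α → Prop := fun a b => ∃ g ∈ G, g a₀ = a ∧ g b₀ = b
  have hne : ∀ {a b}, Rel a b → a ≠ b := by
    rintro a b ⟨g, -, rfl, rfl⟩ h
    exact hab₀ (g.injective h)
  have tot : ∀ a b, a ≠ b → Rel a b ∨ Rel b a := by
    intro a b hab
    obtain ⟨g, hg, hgm⟩ := hh1 {a₀, b₀} {a, b} (Finset.card_pair hab₀) (Finset.card_pair hab)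
    have h1 := hgm a₀ (by simp)
    have h2 := hgm b₀ (by simp)
    simp only [Finset.mem_insert, Finset.mem_singleton] at h1 h2
    rcases h1 with h1 | h1 <;> rcases h2 with h2 | h2
    · exact absurd (g.injective (h1.trans h2.symm)) hab₀
    · exact Or.inl ⟨g, hg, h1, h2⟩
    · exact Or.inr ⟨g, hg, h1, h2⟩
    · exact absurd (g.injective (h1.trans h2.symm)) hab₀
  have inv : ∀ {g a b}, g ∈ G → Rel a b → Rel (g a) (g b) := by
    rintro g a b hg ⟨u, hu, rfl, rfl⟩
    exact ⟨g * u, mul_mem hg hu, rfl, rfl⟩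
  have anti : ∀ {a b}, Rel a b → Rel b a → False := by
    rintro a b ⟨g₁, hg₁, h1, h1'⟩ ⟨g₂, hg₂, h2, h2'⟩
    refine hnt (is_two_pretransitive_iff.mpr fun {p q r s} hpq hrs => ?_)
    have hs : Rel b₀ a₀ := ⟨g₁⁻¹ * g₂, mul_mem (inv_mem hg₁) hg₂,
      by rw [Perm.mul_apply, h2, ← h1', Perm.inv_def, Equiv.symm_apply_apply],
      by rw [Perm.mul_apply, h2', ← h1, Perm.inv_def, Equiv.symm_apply_apply]⟩
    have all : ∀ a b, a ≠ b → Rel a b := fun a b hab => (tot a b hab).elim id fun h => by
      obtain ⟨u, hu, hua, hub⟩ := h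
      obtain ⟨v, hv, hva, hvb⟩ := hs
      exact ⟨u * v, mul_mem hu hv, by rw [Perm.mul_apply, hva, hub], by rw [Perm.mul_apply, hvb, hua]⟩
    obtain ⟨u, hu, hup, huq⟩ := all p q hpq
    obtain ⟨v, hv, hvr, hvs⟩ := all r s hrs
    exact ⟨⟨v * u⁻¹, mul_mem hv (inv_mem hu)⟩,
      by show (v * u⁻¹) p = r; rw [Perm.mul_apply, ← hup, Perm.inv_def, Equiv.symm_apply_apply, hvr],
      by show (v * u⁻¹) q = s; rw [Perm.mul_apply, ← huq, Perm.inv_def, Equiv.symm_apply_apply, hvs]⟩
  -- some triple is cyclic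
  obtain ⟨p, q, r, hpq, hqr, hrp⟩ : ∃ p q r, Rel p q ∧ Rel q r ∧ Rel r p := by
    by_contra hcon
    push Not at hcon
    have trans' : ∀ {a b c}, Rel a b → Rel b c → Rel a c := by
      intro a b c hab hbc
      have hac : a ≠ c := fun e => anti hab (e ▸ hbc)
      exact (tot a c hac).resolve_right (hcon a b c hab hbc)
    let out : α → ℕ := fun a => (Finset.univ.filter fun b => Rel a b).card
    obtain ⟨v, -, hv⟩ := Finset.exists_max_image (Finset.univ : Finset α) out ⟨a₀, Finset.mem_univ _⟩
    have hnone : ∀ u, ¬ Rel u v := fun u hu => by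
      have hsub : Finset.univ.filter (fun b => Rel v b) ⊂ Finset.univ.filter (fun b => Rel u b) := by
        refine Finset.ssubset_iff_subset_ne.mpr ⟨fun b hb => ?_, fun e => ?_⟩
        · simp only [Finset.mem_filter, Finset.mem_univ, true_and] at hb ⊢
          exact trans' hu hb
        · have : v ∈ Finset.univ.filter (fun b => Rel v b) := by rw [e]; simp [hu]
          simp only [Finset.mem_filter, Finset.mem_univ, true_and] at this
          exact hne this rfl
      have h1 := Finset.card_lt_card hsub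
      have h2 : out u ≤ out v := hv u (Finset.mem_univ u)
      exact absurd (lt_of_lt_of_le h1 h2) (lt_irrefl _)
    obtain ⟨w, -, hwv⟩ := Finset.exists_mem_ne (s := (Finset.univ : Finset α))
      (by rw [Finset.card_univ]; omega) v
    have hvw : Rel v w := (tot v w hwv.symm).resolve_right (hnone w)
    obtain ⟨g, hg⟩ := ht.exists_smul_eq v w
    have h1 : Rel ((g : Perm α)⁻¹ v) ((g : Perm α)⁻¹ w) := inv (inv_mem g.2) hvw
    rw [show (g : Perm α)⁻¹ w = v by rw [← hg]; exact Equiv.symm_apply_apply _ v] at h1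
    exact hnone _ h1
  -- in every triple each point beats at most one other
  have single : ∀ S : Finset α, S.card = 3 → ∀ u ∈ S, ∀ v ∈ S, ∀ w ∈ S, Rel u v → Rel u w → v = w := by
    intro S hS u hu v hv w hw huv huw
    have h3 : ({p, q, r} : Finset α).card = 3 := by
      simp [hne hpq, (hne hrp).symm, hne hqr]
    obtain ⟨g, hg, hgm⟩ := hh2 S {p, q, r} hS h3
    have huv' := inv hg huv
    have huw' := inv hg huw
    have a1 := hgm u hu
    have a2 := hgm v hv
    have a3 := hgm w hw
    simp only [Finset.mem_insert, Finset.mem_singleton] at a1 a2 a3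
    have succ : ∀ x y, (x = p ∨ x = q ∨ x = r) → (y = p ∨ y = q ∨ y = r) → Rel x y →
        (x = p ∧ y = q) ∨ (x = q ∧ y = r) ∨ (x = r ∧ y = p) := by
      rintro x y (rfl | rfl | rfl) (rfl | rfl | rfl) hxy
      · exact absurd rfl (hne hxy)
      · exact Or.inl ⟨rfl, rfl⟩
      · exact (anti hxy hrp).elim
      · exact (anti hxy hpq).elim
      · exact absurd rfl (hne hxy)
      · exact Or.inr (Or.inl ⟨rfl, rfl⟩)
      · exact Or.inr (Or.inr ⟨rfl, rfl⟩)
      · exact (anti hxy hqr).elim
      · exact absurd rfl (hne hxy)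
    apply g.injective
    rcases succ _ _ a1 a2 huv' with ⟨e1, e2⟩ | ⟨e1, e2⟩ | ⟨e1, e2⟩ <;>
      rcases succ _ _ a1 a3 huw' with ⟨e3, e4⟩ | ⟨e3, e4⟩ | ⟨e3, e4⟩ <;>
      first
      | exact e2.trans e4.symm
      | exact absurd (e1.symm.trans e3) (hne hpq)
      | exact absurd (e3.symm.trans e1) (hne hpq)
      | exact absurd (e1.symm.trans e3) (hne hqr)
      | exact absurd (e3.symm.trans e1) (hne hqr)
      | exact absurd (e1.symm.trans e3) (hne hrp)
      | exact absurd (e3.symm.trans e1) (hne hrp)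
  obtain ⟨a, -⟩ : ∃ a : α, True := ⟨a₀, trivial⟩
  have key : ∀ c d, c ≠ a → d ≠ a → c ≠ d → (Rel a c ↔ ¬ Rel a d) := by
    intro c d hc hd hcd
    have hS : ({a, c, d} : Finset α).card = 3 := by simp [hc.symm, hd.symm, hcd]
    refine ⟨fun h1 h2 => hcd (single _ hS a (by simp) c (by simp) d (by simp) h1 h2), fun h2 => ?_⟩
    by_contra h1
    have hca := (tot a c hc.symm).resolve_left h1
    have hda := (tot a d hd.symm).resolve_left h2
    rcases tot c d hcd with h | h
    · exact hd.symm (single _ hS c (by simp) a (by simp) d (by simp) hca h)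
    · exact hc.symm (single _ hS d (by simp) a (by simp) c (by simp) hda h)
  obtain ⟨c, d, e, hca, hda, hea, hcd, hce, hde⟩ : ∃ c d e, c ≠ a ∧ d ≠ a ∧ e ≠ a ∧ c ≠ d ∧ c ≠ e ∧ d ≠ e := by
    obtain ⟨T, hT, hTc⟩ := Finset.exists_subset_card_eq (s := (Finset.univ : Finset α).erase a) (n := 3)
      (by rw [Finset.card_erase_of_mem (Finset.mem_univ a), Finset.card_univ]; omega)
    obtain ⟨c, d, e, h1, h2, h3, rfl⟩ := Finset.card_eq_three.mp hTc
    simp only [Finset.insert_subset_iff, Finset.singleton_subset_iff, Finset.mem_erase] at hT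
    exact ⟨c, d, e, hT.1.1, hT.2.1.1, hT.2.2.1, h1, h2, h3⟩
  have k1 := key c d hca hda hcd
  have k2 := key c e hca hea hce
  have k3 := key d e hda hea hde
  by_cases h : Rel a c
  · exact k2.mp h (Classical.not_not.mp fun h' => k1.mp h (k3.mpr h'))
  · have hd' : Rel a d := Classical.not_not.mp fun h' => h (k1.mpr h')
    exact h (k2.mpr (k3.mp hd'))

/-- The exceptions among groups homogeneous but not transitive enough. -/
theorem exceptions (hk : 3 ≤ k) (hkn : k ≤ Fintype.card α)
    (ht : IsMultiplyPretransitive G α (k - 2)) (hnt : ¬ IsMultiplyPretransitive G α (k - 1))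
    (hh1 : Homog G (k - 1)) (hh : Homog G k) :
    (k = Fintype.card α ∧ G = alternatingGroup α) ∨
    (Fintype.card α = 5 ∧ k = 4 ∧ Nat.card G = 20) ∨ (Fintype.card α = 6 ∧ k = 5 ∧ Nat.card G = 120) ∨
    (Fintype.card α = 9 ∧ k = 5 ∧ (Nat.card G = 504 ∨ Nat.card G = 1512)) := by
  rcases Nat.eq_or_lt_of_le hkn with hkn' | hkn'
  · left
    haveI : Nontrivial α := Fintype.one_lt_card_iff_nontrivial.mp (by omega)
    have hG : G ≠ ⊤ := by
      rintro rfl
      refine hnt (mt_of_induces (j := k - 1) hh1 fun D _ σ _ => ⟨σ, Subgroup.mem_top σ, fun _ _ => rfl⟩)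
    have hle : alternatingGroup α ≤ G := _root_.IsMultiplyPretransitive.alternatingGroup_le α G
      (by rw [Nat.card_eq_fintype_card, ← hkn']; exact ht)
    refine ⟨hkn', le_antisymm ?_ hle⟩
    intro g hg
    rw [Perm.mem_alternatingGroup]
    by_contra hs
    refine hG (eq_top_iff.mpr fun x _ => ?_)
    rcases Int.units_eq_one_or (Perm.sign x) with hx | hx
    · exact hle (Perm.mem_alternatingGroup.mpr hx)
    · have : x * g⁻¹ ∈ G := hle (Perm.mem_alternatingGroup.mpr (by
        rw [map_mul, map_inv, hx, (Int.units_eq_one_or _).resolve_left hs]; simp))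
      simpa using mul_mem this hg
  rcases Nat.lt_or_ge k 6 with hk6 | hk6
  · rcases Nat.lt_or_ge k 4 with hk4 | hk4
    · obtain rfl : k = 3 := by omega
      exact absurd (two_transitive_of_homog (is_one_pretransitive_iff.mp ht) (by omega) hh1 hh) hnt
    · right
      obtain ⟨m, rfl⟩ : ∃ m, k = m + 2 := ⟨k - 2, by omega⟩
      simp only [Nat.add_sub_cancel, show m + 2 - 1 = m + 1 by omega] at ht hnt hh1
      rcases small_exceptions ht (by omega) hkn' hh1 hh hnt with ⟨h1, h2, h3⟩ | ⟨h1, h2, h3⟩ | ⟨h1, h2, h3⟩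
      · exact Or.inl ⟨h2, by omega, h3⟩
      · exact Or.inr (Or.inl ⟨h2, by omega, h3⟩)
      · exact Or.inr (Or.inr ⟨h2, by omega, h3⟩)
  · exfalso
    obtain ⟨m, rfl⟩ : ∃ m, k = m + 2 := ⟨k - 2, by omega⟩
    simp only [Nat.add_sub_cancel, show m + 2 - 1 = m + 1 by omega] at ht hnt hh1
    rcases mt_or_card_le ht (by omega) (by omega) hh1 with h | h
    · exact hnt h
    · omega

/-- First Livingstone–Wagner theorem. -/
theorem pred_transitive : ∀ k : ℕ, 2 ≤ k → 2 * k ≤ Fintype.card α →
    IsPretransitive G (Set.powersetCard α k) → IsMultiplyPretransitive G α (k - 1) := by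
  intro k
  induction k using Nat.strong_induction_on with
  | _ k ih =>
  intro hk hkn hh
  have hh1 : IsPretransitive G (Set.powersetCard α (k - 1)) := by
    refine PermGp.homogeneous_pred hk hh fun q _ hqk => ?_
    have := Nat.le_of_dvd (by omega) hqk
    omega
  rcases Nat.lt_or_ge k 3 with h3 | h3
  · obtain rfl : k = 2 := by omega
    refine is_one_pretransitive_iff.mpr ⟨fun x y => ?_⟩
    obtain ⟨g, hg, hgm⟩ := homog_of_isPretransitive hh1 {x} {y} rfl rfl
    exact ⟨⟨g, hg⟩, Finset.mem_singleton.mp (hgm x (Finset.mem_singleton_self x))⟩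
  by_contra hnt
  have ht : IsMultiplyPretransitive G α (k - 2) := ih (k - 1) (by omega) (by omega) (by omega) hh1
  rcases exceptions h3 (by omega) ht hnt (homog_of_isPretransitive hh1) (homog_of_isPretransitive hh)
    with ⟨h, -⟩ | ⟨h, h', -⟩ | ⟨h, h', -⟩ | ⟨h, h', -⟩ <;> omega

/-- Second Livingstone–Wagner theorem. -/
theorem transitive_of_homog (hk : 5 ≤ k) (hkn : 2 * k ≤ Fintype.card α)
    (hh : IsPretransitive G (Set.powersetCard α k)) : IsMultiplyPretransitive G α k := by
  obtain ⟨m, rfl⟩ : ∃ m, k = m + 1 := ⟨k - 1, by omega⟩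
  have ht : IsMultiplyPretransitive G α m := pred_transitive (m + 1) (by omega) hkn hh
  exact (mt_or_card_le ht (by omega) (by omega) (homog_of_isPretransitive hh)).resolve_right (by omega)

end Cfsg.Agent.PermGp.LivWag
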