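import Cfsg.Agent.Lib.PermGp.MultiTrans

/-! Lifting permutations of small sets in multiply transitive groups. -/

set_option autoImplicit false
set_option linter.unusedSectionVars false

namespace Cfsg.Agent.PermGp.LivWag

open MulAction Equiv

variable {α : Type*} [Fintype α] [DecidableEq α] {G : Subgroup (Perm α)}

/-- The pointwise stabiliser of `R` in `G`, inside `Perm α`. -/
def fixp (G : Subgroup (Perm α)) (R : Finset α) : Subgroup (Perm α) :=
  G ⊓ fixingSubgroup (Perm α) (R : Set α)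

theorem mem_fixp {R : Finset α} {g : Perm α} : g ∈ fixp G R ↔ g ∈ G ∧ ∀ x ∈ R, g x = x := by
  simp [fixp, mem_fixingSubgroup_iff]

/-- `g` agrees with `σ` on `R`. -/
def Agree (R : Finset α) (g σ : Perm α) : Prop := ∀ x ∈ R, g x = σ x

/-- `σ` is induced on `R` by some element of `G`. -/
def Induces (G : Subgroup (Perm α)) (R : Finset α) (σ : Perm α) : Prop :=
  ∃ g ∈ G, Agree R g σ

theorem apply_mem {R : Finset α} {σ : Perm α} (hσ : σ.support ⊆ R) {x : α} (hx : x ∈ R) :
    σ x ∈ R := by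
  by_cases h : σ x = x
  · rwa [h]
  · exact hσ (Perm.apply_mem_support.mpr (Perm.mem_support.mpr h))

theorem inv_apply_mem {R : Finset α} {σ : Perm α} (hσ : σ.support ⊆ R) {x : α} (hx : x ∈ R) :
    σ⁻¹ x ∈ R :=
  apply_mem (by rwa [Perm.support_inv]) hx

theorem support_mul_subset {R : Finset α} {σ τ : Perm α} (hσ : σ.support ⊆ R) (hτ : τ.support ⊆ R) :
    (σ * τ).support ⊆ R :=
  (Perm.support_mul_le σ τ).trans (Finset.union_subset hσ hτ)

theorem support_swap_subset {R : Finset α} {a b : α} (ha : a ∈ R) (hb : b ∈ R) :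
    (swap a b).support ⊆ R := by
  intro x hx
  rw [Perm.mem_support] at hx
  by_cases hxa : x = a
  · exact hxa ▸ ha
  by_cases hxb : x = b
  · exact hxb ▸ hb
  exact absurd (swap_apply_of_ne_of_ne hxa hxb) hx

theorem Agree.mul {R : Finset α} {g g' σ σ' : Perm α} (hσ' : σ'.support ⊆ R) (h : Agree R g σ)
    (h' : Agree R g' σ') : Agree R (g * g') (σ * σ') := fun x hx => by
  rw [Perm.mul_apply, Perm.mul_apply, h' x hx, h _ (apply_mem hσ' hx)]

theorem Agree.inv {R : Finset α} {g σ : Perm α} (hσ : σ.support ⊆ R) (h : Agree R g σ) :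
    Agree R g⁻¹ σ⁻¹ := fun x hx => by
  have := h _ (inv_apply_mem hσ hx)
  rw [Perm.inv_def σ, Equiv.apply_symm_apply] at this
  rw [Perm.inv_def g, Equiv.symm_apply_eq, Perm.inv_def σ]
  exact this.symm

theorem Agree.pow {R : Finset α} {g σ : Perm α} (hσ : σ.support ⊆ R) (h : Agree R g σ) :
    ∀ j : ℕ, Agree R (g ^ j) (σ ^ j)
  | 0 => fun x _ => rfl
  | j + 1 => by
    rw [pow_succ', pow_succ']
    exact h.mul ((Perm.support_pow_le σ j).trans hσ) (h.pow hσ j)

theorem Agree.mem {R : Finset α} {g σ : Perm α} (hσ : σ.support ⊆ R) (h : Agree R g σ) {x : α}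
    (hx : x ∈ R) : g x ∈ R := h x hx ▸ apply_mem hσ hx

theorem Agree.not_mem {R : Finset α} {g σ : Perm α} (hσ : σ.support ⊆ R) (h : Agree R g σ) {x : α}
    (hx : x ∉ R) : g x ∉ R := fun hh => hx <| by
  have := (h.inv hσ).mem (by rwa [Perm.support_inv]) hh
  rwa [Perm.inv_def, Equiv.symm_apply_apply] at this

theorem Induces.mul {R : Finset α} {σ σ' : Perm α} (hσ' : σ'.support ⊆ R) (h : Induces G R σ)
    (h' : Induces G R σ') : Induces G R (σ * σ') := by
  obtain ⟨g, hg, ha⟩ := h
  obtain ⟨g', hg', ha'⟩ := h'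
  exact ⟨g * g', mul_mem hg hg', ha.mul hσ' ha'⟩

theorem Induces.inv {R : Finset α} {σ : Perm α} (hσ : σ.support ⊆ R) (h : Induces G R σ) :
    Induces G R σ⁻¹ := by
  obtain ⟨g, hg, ha⟩ := h
  exact ⟨g⁻¹, inv_mem hg, ha.inv hσ⟩

/-- Two elements agreeing on `R` differ by an element fixing `R`. -/
theorem inv_mul_mem_fixp {R : Finset α} {g g' σ : Perm α} (hg : g ∈ G) (hg' : g' ∈ G)
    (h : Agree R g σ) (h' : Agree R g' σ) : g⁻¹ * g' ∈ fixp G R :=
  mem_fixp.mpr ⟨mul_mem (inv_mem hg) hg', fun x hx => by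
    rw [Perm.mul_apply, h' x hx, ← h x hx, Perm.inv_def, Equiv.symm_apply_apply]⟩

theorem agree_mul_fixp {R : Finset α} {g h σ : Perm α} (ha : Agree R g σ) (hh : h ∈ fixp G R) :
    Agree R (g * h) σ := fun x hx => by
  rw [Perm.mul_apply, (mem_fixp.mp hh).2 x hx, ha x hx]

theorem fixp_agree_mul {R : Finset α} {g h σ : Perm α} (hσ : σ.support ⊆ R) (ha : Agree R g σ)
    (hh : h ∈ fixp G R) : Agree R (h * g) σ := fun x hx => by
  rw [Perm.mul_apply, (mem_fixp.mp hh).2 _ (ha.mem hσ hx), ha x hx]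

/-- Elements stabilising `R` normalise the pointwise stabiliser. -/
theorem conj_mem_fixp {R : Finset α} {g h σ : Perm α} (hσ : σ.support ⊆ R) (hg : g ∈ G)
    (ha : Agree R g σ) (hh : h ∈ fixp G R) : g * h * g⁻¹ ∈ fixp G R :=
  mem_fixp.mpr ⟨mul_mem (mul_mem hg (mem_fixp.mp hh).1) (inv_mem hg), fun x hx => by
    rw [Perm.mul_apply, Perm.mul_apply, (mem_fixp.mp hh).2 _ ((ha.inv hσ).mem (by rwa [Perm.support_inv]) hx),
      Perm.inv_def, Equiv.apply_symm_apply]⟩

/-- An injective map on at most `m` points is realised by an `m`-transitive group. -/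
theorem exists_map {m : ℕ} (ht : IsMultiplyPretransitive G α m) (hm : m ≤ Fintype.card α)
    {s : Finset α} (hs : s.card ≤ m) (f : α → α) (hf : Set.InjOn f (s : Set α)) :
    ∃ g ∈ G, ∀ x ∈ s, g x = f x := by
  have : IsMultiplyPretransitive G α s.card :=
    isMultiplyPretransitive_of_le hs (by rwa [Nat.card_eq_fintype_card])
  let e : Fin s.card ↪ α := ⟨fun i => (s.equivFin.symm i : α),
    fun i j h => s.equivFin.symm.injective (Subtype.ext h)⟩
  let e' : Fin s.card ↪ α := ⟨fun i => f (s.equivFin.symm i : α),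
    fun i j h => s.equivFin.symm.injective (Subtype.ext (hf (s.equivFin.symm i).2 (s.equivFin.symm j).2 h))⟩
  obtain ⟨g, hg⟩ := this.exists_smul_eq e e'
  refine ⟨g, g.2, fun x hx => ?_⟩
  have := DFunLike.congr_fun hg (s.equivFin ⟨x, hx⟩)
  have h1 : (g : Perm α) (s.equivFin.symm (s.equivFin ⟨x, hx⟩) : α) =
      f (s.equivFin.symm (s.equivFin ⟨x, hx⟩) : α) := this
  simpa using h1

theorem exists_lift {m : ℕ} (ht : IsMultiplyPretransitive G α m) (hm : m ≤ Fintype.card α)
    {R : Finset α} (hR : R.card ≤ m) (σ : Perm α) : Induces G R σ :=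
  exists_map ht hm hR σ σ.injective.injOn

/-- The pointwise stabilisers of two `m`-sets are conjugate. -/
theorem card_fixp_eq {m : ℕ} (ht : IsMultiplyPretransitive G α m) (hm : m ≤ Fintype.card α)
    {R R' : Finset α} (hR : R.card = m) (hR' : R'.card = m) :
    Nat.card (fixp G R) = Nat.card (fixp G R') := by
  have hcard : R'.card = R.card := hR'.trans hR.symm
  let e := Finset.equivOfCardEq hcard
  obtain ⟨g, hg, hgx⟩ := exists_map ht hm (s := R') hR'.le
    (fun x => if h : x ∈ R' then (e ⟨x, h⟩ : α) else x) (by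
      intro x hx y hy h
      simp only [Finset.mem_coe.mp hx, Finset.mem_coe.mp hy, dite_true] at h
      simpa using e.injective (Subtype.ext h))
  have hgR : ∀ x ∈ R, ∃ y ∈ R', g y = x := fun x hx => by
    refine ⟨e.symm ⟨x, hx⟩, (e.symm ⟨x, hx⟩).2, ?_⟩
    rw [hgx _ (e.symm ⟨x, hx⟩).2, dif_pos (e.symm ⟨x, hx⟩).2]
    simp
  refine Nat.card_congr (((MulAut.conj g).subgroupMap (fixp G R')).toEquiv.trans ?_).symm
  refine Equiv.setCongr (Set.ext fun h => ?_)
  show h ∈ (fixp G R').map (MulAut.conj g).toMonoidHom ↔ h ∈ fixp G R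
  rw [Subgroup.mem_map]
  constructor
  · rintro ⟨k, hk, rfl⟩
    refine mem_fixp.mpr ⟨mul_mem (mul_mem hg (mem_fixp.mp hk).1) (inv_mem hg), fun x hx => ?_⟩
    obtain ⟨y, hy, rfl⟩ := hgR x hx
    show (g * k * g⁻¹) (g y) = g y
    simp [Perm.mul_apply, (mem_fixp.mp hk).2 y hy]
  · intro hh
    refine ⟨g⁻¹ * h * g, mem_fixp.mpr ⟨mul_mem (mul_mem (inv_mem hg) (mem_fixp.mp hh).1) hg,
      fun y hy => ?_⟩, by simp [mul_assoc]⟩
    have : g y ∈ R := by rw [hgx y hy, dif_pos hy]; exact (e ⟨y, hy⟩).2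
    simp [Perm.mul_apply, (mem_fixp.mp hh).2 _ this]

/-- An element agreeing with an involution on `R` has an involutory odd power doing the same. -/
theorem exists_invol_lift {R : Finset α} (hodd : Odd (Nat.card (fixp G R))) {σ g : Perm α}
    (hσ : σ.support ⊆ R) (h2 : σ * σ = 1) (hg : g ∈ G) (ha : Agree R g σ) :
    ∃ j : ℕ, Odd j ∧ g ^ j * g ^ j = 1 ∧ Agree R (g ^ j) σ := by
  have hsq : g * g ∈ fixp G R := mem_fixp.mpr ⟨mul_mem hg hg, fun x hx => by
    rw [ha.mul hσ ha x hx, h2, Perm.one_apply]⟩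
  refine ⟨Nat.card (fixp G R), hodd, ?_, ?_⟩
  · rw [← (Commute.refl g).mul_pow]
    exact congrArg Subtype.val (pow_card_eq_one' (x := (⟨g * g, hsq⟩ : fixp G R)))
  · obtain ⟨c, hc⟩ := hodd
    have : σ ^ Nat.card (fixp G R) = σ := by
      rw [hc, pow_add, pow_mul, pow_two, h2, one_pow, one_mul, pow_one]
    rw [← this]
    exact ha.pow hσ _

/-- An involution without fixed elements on a finite group it normalises inverts it. -/
theorem inverts_of_fpf {H : Subgroup (Perm α)} {a : Perm α} (ha : a * a = 1)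
    (hn : ∀ h ∈ H, a * h * a ∈ H) (hc : ∀ h ∈ H, a * h * a = h → h = 1) :
    ∀ h ∈ H, a * h * a = h⁻¹ := by
  let φ : H → H := fun h => ⟨(h : Perm α)⁻¹ * (a * h * a), mul_mem (inv_mem h.2) (hn _ h.2)⟩
  have hinj : Function.Injective φ := by
    intro h k e
    have e' : (h : Perm α)⁻¹ * (a * h * a) = (k : Perm α)⁻¹ * (a * k * a) := congrArg Subtype.val e
    have e1 : a * ((k : Perm α) * (h : Perm α)⁻¹) * a = (k : Perm α) * (h : Perm α)⁻¹ :=
      calc a * ((k : Perm α) * (h : Perm α)⁻¹) * a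
          = a * k * a * (a * h * a)⁻¹ := by
            have hai : a⁻¹ = a := inv_eq_of_mul_eq_one_right ha
            have hak : ∀ z, a * (a * z) = z := fun z => by rw [← mul_assoc, ha, one_mul]
            simp only [mul_inv_rev, hai, mul_assoc, hak]
        _ = (k : Perm α) * ((k : Perm α)⁻¹ * (a * k * a)) * (a * h * a)⁻¹ := by group
        _ = (k : Perm α) * ((h : Perm α)⁻¹ * (a * h * a)) * (a * h * a)⁻¹ := by rw [e']
        _ = (k : Perm α) * (h : Perm α)⁻¹ := by group
    have := hc _ (mul_mem k.2 (inv_mem h.2)) e1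
    exact Subtype.ext (mul_inv_eq_one.mp this).symm
  intro y hy
  obtain ⟨h, hh⟩ := (Finite.injective_iff_surjective.mp hinj) ⟨y, hy⟩
  have e : (h : Perm α)⁻¹ * (a * h * a) = y := congrArg Subtype.val hh
  rw [← e]
  have hai : a⁻¹ = a := inv_eq_of_mul_eq_one_right ha
  have hak : ∀ z, a * (a * z) = z := fun z => by rw [← mul_assoc, ha, one_mul]
  simp only [mul_inv_rev, hai, inv_inv, mul_assoc, hak, ha, mul_one]

/-- For an involution, fixed points outside `R` have the parity of the outside. -/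
theorem card_fix_outside_parity {R : Finset α} {t σ : Perm α} (ht : t * t = 1)
    (hσ : σ.support ⊆ R) (ha : Agree R t σ) :
    (Rᶜ.filter fun x => t x = x).card % 2 = Rᶜ.card % 2 := by
  have h1 := Perm.two_dvd_card_support (σ := t) (by rw [pow_two, ht])
  have h2 : 2 ∣ σ.support.card := by
    by_cases hσ2 : σ * σ = 1
    · exact Perm.two_dvd_card_support (by rw [pow_two, hσ2])
    · exfalso
      apply hσ2
      ext x
      by_cases hx : x ∈ R
      · have := ha.mul hσ ha x hx
        rw [ht] at this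
        exact this.symm
      · have h0 : σ x = x := by
          by_contra h
          exact hx (hσ (Perm.mem_support.mpr h))
        rw [Perm.mul_apply, h0, h0, Perm.one_apply]
  have h3 : t.support = σ.support ∪ (Rᶜ.filter fun x => ¬ t x = x) := by
    ext x
    simp only [Perm.mem_support, Finset.mem_union, Finset.mem_filter, Finset.mem_compl]
    by_cases hx : x ∈ R
    · simp [hx, ha x hx]
    · have h0 : σ x = x := by
        by_contra h
        exact hx (hσ (Perm.mem_support.mpr h))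
      simp [hx, h0]
  have h4 : t.support.card = σ.support.card + (Rᶜ.filter fun x => ¬ t x = x).card := by
    rw [h3, Finset.card_union_of_disjoint]
    rw [Finset.disjoint_left]
    intro x hx hx'
    exact (Finset.mem_compl.mp (Finset.mem_filter.mp hx').1) (hσ hx)
  have h5 := Finset.card_filter_add_card_filter_not (s := Rᶜ) (fun x => t x = x)
  omega

end Cfsg.Agent.PermGp.LivWag
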