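import Cfsg.Agent.Lib.PermGp.LivWag.SwapOrb

/-! All transpositions of `R` fix the same orbit when the outside is odd. -/

set_option autoImplicit false
set_option linter.unusedSectionVars false

namespace Cfsg.Agent.PermGp.LivWag

open MulAction Equiv

variable {α : Type*} [Fintype α] [DecidableEq α] {G : Subgroup (Perm α)} {m : ℕ} {R : Finset α}

/-- Tits' bound, applied to the stabiliser of `m - 4` points. -/
theorem Reduced.sharp_bound (hr : Reduced G m) (hm : 4 ≤ m) (hR : R.card = m)
    (h1 : Nat.card (fixp G R) = 1) :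
    Rᶜ.card ≤ 7 ∧ (Even Rᶜ.card → Rᶜ.card ≤ 2) := by
  classical
  obtain ⟨S, hSR, hS⟩ := Finset.exists_subset_card_eq (s := R) (n := 4) (by omega)
  set R₀ := R \ S with hR₀
  have hc : R₀.card + 4 = m := by
    have := Finset.card_sdiff_of_subset hSR
    rw [hR₀]; omega
  letI := outsideAction G R₀
  have h4 : IsMultiplyPretransitive (fixp G R₀) {x // x ∉ R₀} 4 := by
    refine ⟨fun e e' => ?_⟩
    obtain ⟨g, hg, hge⟩ := exists_map_fix hr.trans hr.lt.le (R₀ := R₀) hc.le
      (e.trans (Function.Embedding.subtype _)) (e'.trans (Function.Embedding.subtype _))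
      (fun i => (e i).2) (fun i => (e' i).2)
    exact ⟨⟨g, hg⟩, DFunLike.ext _ _ fun i => Subtype.ext (hge i)⟩
  have hsharp : ∀ e : Fin 4 ↪ {x // x ∉ R₀}, stabilizer (fixp G R₀) e = ⊥ := by
    intro e
    refine (Subgroup.eq_bot_iff_forall _).mpr fun g hg => ?_
    let e' : Fin 4 ↪ α := e.trans (Function.Embedding.subtype _)
    have hR' : (R₀ ∪ Finset.univ.map e').card = m := by
      rw [Finset.card_union_of_disjoint, Finset.card_map, Finset.card_univ, Fintype.card_fin, hc]
      refine Finset.disjoint_right.mpr fun x hx => ?_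
      obtain ⟨i, -, rfl⟩ := Finset.mem_map.mp hx
      exact (e i).2
    have h0 := card_fixp_eq hr.trans hr.lt.le hR' hR
    rw [h1, Subgroup.card_eq_one] at h0
    have hmem : (g : Perm α) ∈ fixp G (R₀ ∪ Finset.univ.map e') := by
      refine mem_fixp.mpr ⟨(mem_fixp.mp g.2).1, fun x hx => ?_⟩
      rcases Finset.mem_union.mp hx with hx | hx
      · exact (mem_fixp.mp g.2).2 x hx
      · obtain ⟨i, -, rfl⟩ := Finset.mem_map.mp hx
        exact congrArg Subtype.val (DFunLike.congr_fun (MulAction.mem_stabilizer_iff.mp hg) i)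
    rw [h0, Subgroup.mem_bot] at hmem
    exact Subtype.ext hmem
  have hcard : Fintype.card {x // x ∉ R₀} = Rᶜ.card + 4 := by
    rw [Fintype.card_subtype_compl, Finset.card_compl, Fintype.card_coe]
    have := hr.lt
    omega
  have hne : Nonempty (Fin 4 ↪ {x // x ∉ R₀}) :=
    Function.Embedding.nonempty_of_card_le (by rw [Fintype.card_fin]; omega)
  obtain ⟨-, hb, he⟩ := Cfsg.Agent.S0708.result h4 hsharp hne
  rw [Nat.card_eq_fintype_card, hcard] at hb he
  refine ⟨by omega, fun h => ?_⟩
  have := he (Nat.even_add.mpr (by simp [h, show Even 4 by decide]))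
  omega

variable (hN : Odd Rᶜ.card) (hodd : Odd (Nat.card (fixp G R)))

include hN hodd

/-- A double transposition preserves the orbit of either of its pairs, in any of the three pairings. -/
theorem Reduced.double_fix (hr : Reduced G m) (hR : R.card = m) {a b c d y : α} (ha : a ∈ R)
    (hb : b ∈ R) (hc : c ∈ R) (hd : d ∈ R) (hab : a ≠ b) (hcd : c ≠ d) (hac : a ≠ c) (had : a ≠ d)
    (hbc : b ≠ c) (hbd : b ≠ d) {u : Perm α} (hu : u ∈ G)
    (hua : Agree R u (swap a b * swap c d))
    (hy : SOrb G R a b y ∨ (SOrb G R a c y ∧ SOrb G R b d y)) : Orb G R (u y) y := by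
  have hπ := support_mul_subset (support_swap_subset ha hb) (support_swap_subset hc hd)
  rcases hy with hy | ⟨hy, hy'⟩
  · have h1 := hy.transport ha hb hπ hu hua
    rw [Perm.mul_apply, Perm.mul_apply, swap_apply_of_ne_of_ne hac had,
      swap_apply_of_ne_of_ne hbc hbd, swap_apply_left, swap_apply_right] at h1
    exact hr.sorb_unique hN hodd hR ha hb hab h1.symm hy
  · have h1 := hy.transport ha hc hπ hu hua
    rw [Perm.mul_apply, Perm.mul_apply, swap_apply_of_ne_of_ne hac had, swap_apply_left,
      swap_apply_left, swap_apply_of_ne_of_ne had.symm hbd.symm] at h1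
    exact hr.sorb_unique hN hodd hR hb hd hbd h1 hy'

/-- For `m = 4` the three pairings cannot have three different orbits. -/
theorem Reduced.not_three_classes (hr : Reduced G m) (hR : R.card = m) (hm : m = 4) {a b c d x y z : α}
    (ha : a ∈ R) (hb : b ∈ R) (hc : c ∈ R) (hd : d ∈ R) (hab : a ≠ b) (hcd : c ≠ d) (hac : a ≠ c)
    (had : a ≠ d) (hbc : b ≠ c) (hbd : b ≠ d)
    (hx : SOrb G R a b x) (hx' : SOrb G R c d x) (hy : SOrb G R a c y) (hy' : SOrb G R b d y)
    (hz : SOrb G R a d z) (hz' : SOrb G R b c z)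
    (nxy : ¬ Orb G R x y) (nxz : ¬ Orb G R x z) (nyz : ¬ Orb G R y z) : False := by
  have hl : ∀ σ : Perm α, Induces G R σ := exists_lift hr.trans hr.lt.le hR.le
  have hRall : ∀ w ∈ R, w = a ∨ w = b ∨ w = c ∨ w = d := by
    intro w hw
    have : ({a, b, c, d} : Finset α) = R := Finset.eq_of_subset_of_card_le
      (by simp [Finset.insert_subset_iff, ha, hb, hc, hd])
      (by rw [hR, hm]; simp [hab, hac, had, hbc, hbd, hcd])
    rw [← this] at hw
    simpa using hw
  have s1 := support_mul_subset (support_swap_subset ha hb) (support_swap_subset hc hd)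
  have s2 := support_mul_subset (support_swap_subset ha hc) (support_swap_subset hb hd)
  -- a double lift, an involution fixing the three orbits pointwise
  obtain ⟨g, hg, hga⟩ := hl (swap a b * swap c d)
  have hinv2 : swap a b * swap c d * (swap a b * swap c d) = 1 := by
    ext w; simp only [Perm.mul_apply, Perm.one_apply, swap_apply_def]; grind
  obtain ⟨j, -, h2, hca⟩ := exists_invol_lift hodd s1 hinv2 hg hga
  have hcG : g ^ j ∈ G := pow_mem hg j
  obtain ⟨-, hsgn⟩ := hr.conj_sign' hN hodd hR (by omega)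
  have hs : Perm.sign (swap a b * swap c d) = 1 := by
    rw [map_mul, Perm.sign_swap hab, Perm.sign_swap hcd]; decide
  have hpt : ∀ w, w ∉ R → Orb G R ((g ^ j) w) w → ∀ w', Orb G R w w' → (g ^ j) w' = w' := by
    intro w hw how w' hww'
    obtain ⟨k, hk, hkw⟩ := (((hww'.symm).map s1 hcG hca).trans (how.trans hww')).symm
    have hcomm := hsgn _ s1 _ hcG hca k hk
    rw [if_pos hs, mul_inv_eq_iff_eq_mul] at hcomm
    have hw' : w' ∉ R := fun h => hw <| by
      obtain ⟨q, hq, hqe⟩ := hww'
      have := (mem_fixp.mp (inv_mem hq)).2 _ h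
      rw [← hqe, Perm.inv_def, Equiv.symm_apply_apply] at this
      rw [this, hqe]; exact h
    have hkk : (k * k) w' = w' :=
      calc (k * k) w' = (k * g ^ j) w' := by simp [Perm.mul_apply, hkw]
        _ = (g ^ j * k) w' := by rw [hcomm]
        _ = (g ^ j * g ^ j) w' := by simp [Perm.mul_apply, hkw]
        _ = w' := by rw [h2, Perm.one_apply]
    have hk1 := sq_eq_one_odd hodd hk (hr.semireg hR (mul_mem hk hk) hw' hkk)
    rw [hk1, Perm.one_apply] at hkw
    exact hkw.symm
  have ox := hr.double_fix hN hodd hR ha hb hc hd hab hcd hac had hbc hbd hcG hca (Or.inl hx)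
  have oy := hr.double_fix hN hodd hR ha hb hc hd hab hcd hac had hbc hbd hcG hca (Or.inr ⟨hy, hy'⟩)
  have oz := hr.double_fix hN hodd hR ha hb hd hc hab hcd.symm had hac hbd hbc hcG
    (by rw [swap_comm d c]; exact hca) (Or.inr ⟨hz, hz'⟩)
  obtain ⟨sx, cx, ux, mx⟩ := hr.orb_image_card hR hx.1
  obtain ⟨sy, cy, uy, my⟩ := hr.orb_image_card hR hy.1
  obtain ⟨sz, cz, uz, mz⟩ := hr.orb_image_card hR hz.1
  have dxy : Disjoint sx sy := Finset.disjoint_left.mpr fun w h1 h2 =>
    nxy (((mx w).mp h1).trans ((my w).mp h2).symm)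
  have dz : Disjoint (sx ∪ sy) sz := Finset.disjoint_left.mpr fun w h1 h2 => by
    rcases Finset.mem_union.mp h1 with h1 | h1
    · exact nxz (((mx w).mp h1).trans ((mz w).mp h2).symm)
    · exact nyz (((my w).mp h1).trans ((mz w).mp h2).symm)
  have hfixS : ∀ w ∈ sx ∪ sy ∪ sz, (g ^ j) w = w := by
    intro w hw
    simp only [Finset.mem_union] at hw
    rcases hw with (hw | hw) | hw
    · exact hpt x hx.1 ox w ((mx w).mp hw)
    · exact hpt y hy.1 oy w ((my w).mp hw)
    · exact hpt z hz.1 oz w ((mz w).mp hw)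
  have hcard := Finset.card_union_of_disjoint dz
  rw [Finset.card_union_of_disjoint dxy, cx, cy, cz] at hcard
  have hfour : (Rᶜ.filter fun w => (g ^ j) w = w).card ≤ 4 := by
    have := hr.fix_add_le hcG hca ha (by
      rw [Perm.mul_apply, swap_apply_of_ne_of_ne hac had, swap_apply_left]; exact hab.symm)
    omega
  have hSsub : sx ∪ sy ∪ sz ⊆ Rᶜ.filter fun w => (g ^ j) w = w := fun w hw =>
    Finset.mem_filter.mpr ⟨Finset.union_subset (Finset.union_subset ux uy) uz hw, hfixS w hw⟩
  have hle := Finset.card_le_card hSsub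
  have hl1 : Nat.card (fixp G R) = 1 := by
    have : 0 < Nat.card (fixp G R) := Nat.card_pos
    omega
  -- from now on lifts are unique
  have eqA : ∀ {g g' σ : Perm α}, g ∈ G → g' ∈ G → Agree R g σ → Agree R g' σ → g = g' :=
    fun h1 h2 h3 h4 => hr.eq_of_agree hl1 h1 h2 h3 h4
  have nxy' : x ≠ y := fun e => nxy (e ▸ Orb.refl x)
  have nxz' : x ≠ z := fun e => nxz (e ▸ Orb.refl x)
  have nyz' : y ≠ z := fun e => nyz (e ▸ Orb.refl y)
  obtain ⟨t, ht, hta, ht2, htx, htu⟩ := hr.sorb_fixing hN hodd hR ha hb hab hx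
  obtain ⟨s, hsG, hsa, hs2, hsx, hsu⟩ := hr.sorb_fixing hN hodd hR hc hd hcd hx'
  set u := t * s with hu_def
  have huG : u ∈ G := mul_mem ht hsG
  have hua : Agree R u (swap a b * swap c d) := hta.mul (support_swap_subset hc hd) hsa
  obtain ⟨v, hv, hva⟩ := hl (swap a c * swap b d)
  have ux' : u x = x := by rw [hu_def, Perm.mul_apply, hsx, htx]
  have uy' : u y = y := eq_of_orb hl1
    (hr.double_fix hN hodd hR ha hb hc hd hab hcd hac had hbc hbd huG hua (Or.inr ⟨hy, hy'⟩))
  have uz' : u z = z := eq_of_orb hl1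
    (hr.double_fix hN hodd hR ha hb hd hc hab hcd.symm had hac hbd hbc huG
      (by rw [swap_comm d c]; exact hua) (Or.inr ⟨hz, hz'⟩))
  have vx : v x = x := eq_of_orb hl1
    (hr.double_fix hN hodd hR ha hc hb hd hac hbd hab had hbc.symm hcd hv hva (Or.inr ⟨hx, hx'⟩))
  have vy : v y = y := eq_of_orb hl1
    (hr.double_fix hN hodd hR ha hc hb hd hac hbd hab had hbc.symm hcd hv hva (Or.inl hy))
  have vz : v z = z := eq_of_orb hl1
    (hr.double_fix hN hodd hR ha hc hd hb hac hbd.symm had hab hcd hbc.symm hv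
      (by rw [swap_comm d b]; exact hva) (Or.inr ⟨hz, hz'.symm⟩))
  have h1R : Agree R 1 1 := fun _ _ => rfl
  have hu2 : u * u = 1 := eqA (mul_mem huG huG) (one_mem G) (hinv2 ▸ hua.mul s1 hua) h1R
  have hv2 : v * v = 1 := eqA (mul_mem hv hv) (one_mem G) ((show swap a c * swap b d *
      (swap a c * swap b d) = 1 by
    ext w; simp only [Perm.mul_apply, Perm.one_apply, swap_apply_def]; grind) ▸ hva.mul s2 hva) h1R
  have huv : u * v = v * u := eqA (mul_mem huG hv) (mul_mem hv huG) (hua.mul s2 hva)
    ((show swap a c * swap b d * (swap a b * swap c d) = swap a b * swap c d * (swap a c * swap b d) by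
      ext w; simp only [Perm.mul_apply, swap_apply_def]; grind) ▸ hva.mul s1 hua)
  have htu' : t * u = u * t := eqA (mul_mem ht huG) (mul_mem huG ht) (hta.mul s1 hua)
    ((show swap a b * swap c d * swap a b = swap a b * (swap a b * swap c d) by
      ext w; simp only [Perm.mul_apply, swap_apply_def]; grind) ▸ hua.mul (support_swap_subset ha hb) hta)
  have htv : t * v = u * v * t := eqA (mul_mem ht hv) (mul_mem (mul_mem huG hv) ht) (hta.mul s2 hva)
    ((show swap a b * swap c d * (swap a c * swap b d) * swap a b = swap a b * (swap a c * swap b d) by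
      ext w; simp only [Perm.mul_apply, swap_apply_def]; grind) ▸
      (hua.mul s2 hva).mul (support_swap_subset ha hb) hta)
  -- exactly three fixed points of each double lift
  have three : ∀ {p σ : Perm α}, p ∈ G → Agree R p σ → σ.support ⊆ R → p * p = 1 → σ a ≠ a →
      p x = x → p y = y → p z = z → ∀ w, w ∉ R → p w = w → w = x ∨ w = y ∨ w = z := by
    intro p σ hp hpa hσ hp2 hne px py pz w hw hpw
    by_contra hcon
    push Not at hcon
    have h4 := hr.fix_add_le hp hpa ha hne
    have hpar := card_fix_outside_parity hp2 hσ hpa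
    have h3 : ({w, x, y, z} : Finset α) ⊆ Rᶜ.filter fun q => p q = q := by
      simp [Finset.insert_subset_iff, hw, hpw, hx.1, px, hy.1, py, hz.1, pz]
    have h3' := Finset.card_le_card h3
    have hw4 : ({w, x, y, z} : Finset α).card = 4 := by
      simp [hcon.1, hcon.2.1, hcon.2.2, nxy', nxz', nyz']
    rw [Nat.odd_iff.mp hN] at hpar
    omega
  have hcompl : Rᶜ.card + 4 = Fintype.card α := by
    rw [Finset.card_compl, hR, hm]
    have := hr.lt
    omega
  obtain ⟨hN7, -⟩ := hr.sharp_bound (by omega) hR hl1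
  by_cases hQ : ∃ q, q ∉ R ∧ q ≠ x ∧ q ≠ y ∧ q ≠ z
  · obtain ⟨q, hqR, hqx, hqy, hqz⟩ := hQ
    have key : ∀ {p σ : Perm α}, p ∈ G → Agree R p σ → σ.support ⊆ R → p * p = 1 → σ a ≠ a →
        p x = x → p y = y → p z = z → ∀ w, w ∉ R → w ≠ x → w ≠ y → w ≠ z →
        p w ≠ w ∧ p w ∉ R ∧ p w ≠ x ∧ p w ≠ y ∧ p w ≠ z := by
      intro p σ hp hpa hσ hp2 hne px py pz w hw hwx hwy hwz
      refine ⟨fun e => ?_, hpa.not_mem hσ hw, fun e => hwx (p.injective (e.trans px.symm)),
        fun e => hwy (p.injective (e.trans py.symm)), fun e => hwz (p.injective (e.trans pz.symm))⟩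
      rcases three hp hpa hσ hp2 hne px py pz w hw e with e' | e' | e'
      exacts [hwx e', hwy e', hwz e']
    have hne1 : (swap a b * swap c d) a ≠ a := by
      rw [Perm.mul_apply, swap_apply_of_ne_of_ne hac had, swap_apply_left]; exact hab.symm
    have hne2 : (swap a c * swap b d) a ≠ a := by
      rw [Perm.mul_apply, swap_apply_of_ne_of_ne hab had, swap_apply_left]; exact hac.symm
    have hne3 : (swap a b * swap c d * (swap a c * swap b d)) a ≠ a := by
      simp only [Perm.mul_apply, swap_apply_def]; grind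
    have huu : ∀ w, u (u w) = w := fun w => by rw [← Perm.mul_apply, hu2, Perm.one_apply]
    have hvv : ∀ w, v (v w) = w := fun w => by rw [← Perm.mul_apply, hv2, Perm.one_apply]
    have huv' : ∀ w, v (u w) = u (v w) := fun w => by rw [← Perm.mul_apply, ← huv, Perm.mul_apply]
    have htt : ∀ w, t (t w) = w := fun w => by rw [← Perm.mul_apply, ht2, Perm.one_apply]
    have htu2 : ∀ w, t (u w) = u (t w) := fun w => by rw [← Perm.mul_apply, htu', Perm.mul_apply]
    have htv2 : ∀ w, t (v w) = u (v (t w)) := fun w => by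
      rw [← Perm.mul_apply, htv, Perm.mul_apply, Perm.mul_apply]
    have huv2 : u * v * (u * v) = 1 := by
      ext w; simp only [Perm.mul_apply, Perm.one_apply]; rw [huv', hvv, huu]
    obtain ⟨k1, r1, x1, y1, z1⟩ := key huG hua s1 hu2 hne1 ux' uy' uz' q hqR hqx hqy hqz
    obtain ⟨k2, r2, x2, y2, z2⟩ := key hv hva s2 hv2 hne2 vx vy vz q hqR hqx hqy hqz
    obtain ⟨k3, r3, x3, y3, z3⟩ := key (mul_mem huG hv) (hua.mul s2 hva) (support_mul_subset s1 s2)
      huv2 hne3 (by rw [Perm.mul_apply, vx, ux']) (by rw [Perm.mul_apply, vy, uy'])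
      (by rw [Perm.mul_apply, vz, uz']) q hqR hqx hqy hqz
    rw [Perm.mul_apply] at k3 r3 x3 y3 z3
    have k12 : u q ≠ v q := fun e => k3 (by rw [← e, huu])
    have k13 : u q ≠ u (v q) := fun e => k2 (u.injective e).symm
    have k23 : v q ≠ u (v q) := fun e => k1 (by
      have h := congrArg (fun w => v w) e
      simp only [hvv, huv'] at h
      exact h.symm)
    have hsub : ({x, y, z, q, u q, v q, u (v q)} : Finset α) ⊆ Rᶜ := by
      simp [Finset.insert_subset_iff, hx.1, hy.1, hz.1, hqR, r1, r2, r3]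
    have hseven : ({x, y, z, q, u q, v q, u (v q)} : Finset α).card = 7 := by
      simp [nxy', nxz', nyz', hqx.symm, hqy.symm, hqz.symm, x1.symm, y1.symm, z1.symm, x2.symm,
        y2.symm, z2.symm, x3.symm, y3.symm, z3.symm, k1.symm, k2.symm, k3.symm, k12, k13, k23]
    have hall : Rᶜ = ({x, y, z, q, u q, v q, u (v q)} : Finset α) :=
      (Finset.eq_of_subset_of_card_le hsub (by omega)).symm
    have htq : t q ∈ Rᶜ := Finset.mem_compl.mpr (hta.not_mem (support_swap_subset ha hb) hqR)
    have htq_x : t q ≠ x := fun e => hqx (t.injective (e.trans htx.symm))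
    have htyz : ∀ w, (w = y ∨ w = z) → t w = y ∨ t w = z := by
      intro w hw
      have hwR : w ∉ R := by rcases hw with rfl | rfl; exacts [hy.1, hz.1]
      have hwfix : u w = w := by rcases hw with rfl | rfl; exacts [uy', uz']
      have h1 := three huG hua s1 hu2 hne1 ux' uy' uz' (t w) (hta.not_mem (support_swap_subset ha hb) hwR)
        (by rw [← htu2, hwfix])
      rcases h1 with h1 | h1
      · exfalso
        have := t.injective (h1.trans htx.symm)
        rcases hw with rfl | rfl
        exacts [nxy' this.symm, nxz' this.symm]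
      · exact h1
    have htq_y : t q ≠ y := fun e => by
      have := htyz y (Or.inl rfl)
      rw [← e, htt] at this
      rcases this with h | h
      exacts [hqy (h.trans e), hqz h]
    have htq_z : t q ≠ z := fun e => by
      have := htyz z (Or.inr rfl)
      rw [← e, htt] at this
      rcases this with h | h
      exacts [hqy h, hqz (h.trans e)]
    rw [hall] at htq
    simp only [Finset.mem_insert, Finset.mem_singleton] at htq
    rcases htq with e | e | e | e | e | e | e
    · exact htq_x e
    · exact htq_y e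
    · exact htq_z e
    · exact hqx (htu q hqR e)
    · refine x2 (htu _ r2 ?_)
      rw [htv2, e, huv', huu]
    · have h := congrArg (fun w => t w) e
      simp only [htt] at h
      rw [htv2, e, hvv] at h
      exact k1 h.symm
    · have h := congrArg (fun w => t w) e
      simp only [htt] at h
      rw [htu2, htv2, huu, e, huv', hvv] at h
      exact k1 h.symm
  · push Not at hQ
    -- degree seven: compare with the point stabiliser of `a`, `b`
    set R' : Finset α := {a, b, x, y}
    have hax : a ≠ x := fun e => hx.1 (e ▸ ha)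
    have hbx : b ≠ x := fun e => hx.1 (e ▸ hb)
    have hay : a ≠ y := fun e => hy.1 (e ▸ ha)
    have hby : b ≠ y := fun e => hy.1 (e ▸ hb)
    have hR' : R'.card = m := by simp [R', hab, hax, hay, hbx, hby, nxy', hm]
    have hl1' : Nat.card (fixp G R') = 1 := (card_fixp_eq hr.trans hr.lt.le hR' hR).trans hl1
    have hN' : Odd R'ᶜ.card := by
      rw [Finset.card_compl, hR', ← hR, ← Finset.card_compl]; exact hN
    have hodd' : Odd (Nat.card (fixp G R')) := by rw [hl1']; exact odd_one
    obtain ⟨g', hg', hga'⟩ := exists_lift hr.trans hr.lt.le hR'.le (swap x y)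
    have hxR' : x ∈ R' := by simp [R']
    have hyR' : y ∈ R' := by simp [R']
    have hsxy := support_swap_subset hxR' hyR'
    have hua' : Agree R' u (swap a b) := by
      intro w hw
      simp only [R', Finset.mem_insert, Finset.mem_singleton] at hw
      rcases hw with rfl | rfl | rfl | rfl
      · rw [hua _ ha, Perm.mul_apply, swap_apply_of_ne_of_ne hac had]
      · rw [hua _ hb, Perm.mul_apply, swap_apply_of_ne_of_ne hbc hbd]
      · rw [ux', swap_apply_of_ne_of_ne hax.symm hbx.symm]
      · rw [uy', swap_apply_of_ne_of_ne hay.symm hby.symm]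
    have hsab := support_swap_subset (show a ∈ R' by simp [R']) (show b ∈ R' by simp [R'])
    have hcz : z ∉ R' := by
      simp [R', nxz'.symm, nyz'.symm, show z ≠ a from fun e => hz.1 (e ▸ ha),
        show z ≠ b from fun e => hz.1 (e ▸ hb)]
    have hcomm : g' * u = u * g' := hr.eq_of_agree hl1' (mul_mem hg' huG) (mul_mem huG hg')
      (hga'.mul hsab hua') ((show swap a b * swap x y = swap x y * swap a b by
        ext w; simp only [Perm.mul_apply, swap_apply_def]; grind) ▸ hua'.mul hsxy hga')
    -- the fixed point of `g'` outside `R'` is `z`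
    have hg'z : g' z = z := by
      have h1 : u (g' z) = g' z := by rw [← Perm.mul_apply, ← hcomm, Perm.mul_apply, uz']
      have h2 := hga'.not_mem hsxy hcz
      by_cases hzR : g' z ∈ R
      · exfalso
        rcases hRall _ hzR with e | e | e | e
        · exact h2 (by simp [R', e])
        · exact h2 (by simp [R', e])
        · rw [e, hua c hc, Perm.mul_apply, swap_apply_left, swap_apply_of_ne_of_ne had.symm hbd.symm] at h1
          exact hcd h1.symm
        · rw [e, hua d hd, Perm.mul_apply, swap_apply_right, swap_apply_of_ne_of_ne hac.symm hbc.symm] at h1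
          exact hcd h1
      · have hxx : g' z ≠ x := fun e => h2 (e ▸ hxR')
        have hyy : g' z ≠ y := fun e => h2 (e ▸ hyR')
        exact hQ _ hzR hxx hyy
    have hg'2 : g' * g' = 1 := hr.eq_of_agree hl1' (mul_mem hg' hg') (one_mem G)
      ((Equiv.swap_mul_self x y) ▸ hga'.mul hsxy hga') (fun _ _ => rfl)
    obtain ⟨k, hk, hka, -, w0, -, -, hw0⟩ := hr.swap_invol hN' hodd' hR' hxR' hyR' nxy'
    have hkg : k = g' := hr.eq_of_agree hl1' hk hg' hka hga'
    subst hkg
    have hcR' : c ∉ R' := by
      simp [R', hac.symm, hbc.symm, show c ≠ x from fun e => hx.1 (e ▸ hc),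
        show c ≠ y from fun e => hy.1 (e ▸ hc)]
    have hdR' : d ∉ R' := by
      simp [R', had.symm, hbd.symm, show d ≠ x from fun e => hx.1 (e ▸ hd),
        show d ≠ y from fun e => hy.1 (e ▸ hd)]
    have hzw := hw0 z hcz hg'z
    have hne_c : k c ≠ c := fun e => by
      have := hw0 c hcR' e
      exact hz.1 (by rw [hzw, ← this]; exact hc)
    have hne_z : k c ≠ z := fun e => by
      have : k c = k z := e.trans hg'z.symm
      exact hz.1 (k.injective this ▸ hc)
    have hkc : k c = d := by
      have h2 := hga'.not_mem hsxy hcR'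
      by_cases hcR : k c ∈ R
      · rcases hRall _ hcR with e | e | e | e
        · exact absurd (by simp [R', e]) h2
        · exact absurd (by simp [R', e]) h2
        · exact absurd e hne_c
        · exact e
      · exact absurd (hQ _ hcR (fun e => h2 (e ▸ hxR')) (fun e => h2 (e ▸ hyR'))) hne_z
    have hkd : k d = c := by rw [← hkc, ← Perm.mul_apply, hg'2, Perm.one_apply]
    have hks : k = s := eqA hk hsG (σ := swap c d) (fun w hw => by
      rcases hRall w hw with rfl | rfl | rfl | rfl
      · rw [hga' _ (by simp [R']), swap_apply_of_ne_of_ne hax hay, swap_apply_of_ne_of_ne hac had]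
      · rw [hga' _ (by simp [R']), swap_apply_of_ne_of_ne hbx hby, swap_apply_of_ne_of_ne hbc hbd]
      · rw [hkc, swap_apply_left]
      · rw [hkd, swap_apply_right]) hsa
    subst hks
    exact nxz' (hsu z hz.1 hg'z).symm

/-- Two transpositions sharing a point fix the same orbit. -/
theorem Reduced.sorb_step (hr : Reduced G m) (hm : 4 ≤ m) (hR : R.card = m) {a b c y z : α}
    (ha : a ∈ R) (hb : b ∈ R) (hc : c ∈ R) (hab : a ≠ b) (hac : a ≠ c) (hbc : b ≠ c)
    (hy : SOrb G R a b y) (hz : SOrb G R a c z) : Orb G R y z := by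
  set S := ((R.erase a).erase b).erase c with hS
  have hbe : b ∈ R.erase a := Finset.mem_erase.mpr ⟨hab.symm, hb⟩
  have hce : c ∈ (R.erase a).erase b := Finset.mem_erase.mpr ⟨hbc.symm, Finset.mem_erase.mpr ⟨hac.symm, hc⟩⟩
  have hScard : S.card + 3 = m := by
    have h1 := Finset.card_erase_add_one hce
    have h2 := Finset.card_erase_add_one hbe
    have h3 := Finset.card_erase_add_one ha
    rw [hS]; omega
  have hmemS : ∀ d ∈ S, d ∈ R ∧ a ≠ d ∧ b ≠ d ∧ c ≠ d := fun d hd => by
    simp only [hS, Finset.mem_erase] at hd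
    exact ⟨hd.2.2.2, hd.2.2.1.symm, hd.2.1.symm, hd.1.symm⟩
  obtain ⟨d, hd⟩ := Finset.card_pos.mp (show 0 < S.card by omega)
  obtain ⟨hdR, had, hbd, hcd⟩ := hmemS d hd
  rcases Nat.lt_or_ge m 5 with hm5 | hm5
  · -- degree four: otherwise the three pairings give three orbits
    by_contra hne
    have hm4 : m = 4 := by omega
    obtain ⟨w, hw⟩ := hr.sorb_exists hN hodd hR ha hdR had
    obtain ⟨y', hy'⟩ := hr.sorb_exists hN hodd hR hc hdR hcd
    obtain ⟨z', hz'⟩ := hr.sorb_exists hN hodd hR hb hdR hbd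
    obtain ⟨w', hw'⟩ := hr.sorb_exists hN hodd hR hb hc hbc
    have eyy := hr.sorb_disjoint hN hodd hR ha hb hc hdR hab hcd hac had hbc hbd hy hy'
    have ezz := hr.sorb_disjoint hN hodd hR ha hc hb hdR hac hbd hab had hbc.symm hcd hz hz'
    have eww := hr.sorb_disjoint hN hodd hR ha hdR hb hc had hbc hab hac hbd.symm hcd.symm hw hw'
    have hrepl : ∀ {p q u v : α}, p ∈ R → q ∈ R → SOrb G R p q u → v ∉ R → Orb G R u v →
        SOrb G R p q v := fun hp hq hu hv huv => ⟨hv, fun g hg hga =>
      ((huv.symm).map (support_swap_subset hp hq) hg hga).trans ((hu.2 g hg hga).trans huv)⟩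
    have hy'' := hrepl hc hdR hy' hy.1 eyy.symm
    have hz'' := hrepl hb hdR hz' hz.1 ezz.symm
    have hw'' := hrepl hb hc hw' hw.1 eww.symm
    refine hr.not_three_classes hN hodd hR hm4 ha hb hc hdR hab hcd hac had hbc hbd hy hy'' hz hz''
      hw hw'' hne (fun hyw => ?_) (fun hzw => ?_)
    · -- `(a b)` sends the pairing of `(a d)` to that of `(b d)`
      obtain ⟨u, hu, hua⟩ := exists_lift hr.trans hr.lt.le hR.le (swap a b)
      have h1 := hy.transport ha hb (support_swap_subset ha hb) hu hua
      have h2 := hw.transport ha hdR (support_swap_subset ha hb) hu hua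
      rw [swap_apply_left, swap_apply_right] at h1
      rw [swap_apply_left, swap_apply_of_ne_of_ne had.symm hbd.symm] at h2
      exact hne ((hr.sorb_unique hN hodd hR hb ha hab.symm hy.symm h1).trans
        ((hyw.map (support_swap_subset ha hb) hu hua).trans
          (hr.sorb_unique hN hodd hR hb hdR hbd h2 hz'')))
    · -- `(a c)` sends the pairing of `(a d)` to that of `(c d)`
      obtain ⟨u, hu, hua⟩ := exists_lift hr.trans hr.lt.le hR.le (swap a c)
      have h1 := hz.transport ha hc (support_swap_subset ha hc) hu hua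
      have h2 := hw.transport ha hdR (support_swap_subset ha hc) hu hua
      rw [swap_apply_left, swap_apply_right] at h1
      rw [swap_apply_left, swap_apply_of_ne_of_ne had.symm hcd.symm] at h2
      exact hne (((hr.sorb_unique hN hodd hR hc hdR hcd hy'' h2).trans
        (hzw.symm.map (support_swap_subset ha hc) hu hua)).trans
          (hr.sorb_unique hN hodd hR hc ha hac.symm h1 hz.symm))
  · obtain ⟨e, he⟩ := Finset.card_pos.mp (show 0 < (S.erase d).card by
      have := Finset.card_erase_add_one hd; omega)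
    obtain ⟨hed, heS⟩ := Finset.mem_erase.mp he
    obtain ⟨heR, hae, hbe', hce'⟩ := hmemS e heS
    obtain ⟨w, hw⟩ := hr.sorb_exists hN hodd hR hdR heR hed.symm
    exact (hr.sorb_disjoint hN hodd hR ha hb hdR heR hab hed.symm had hae hbd hbe' hy hw).trans
      (hr.sorb_disjoint hN hodd hR ha hc hdR heR hac hed.symm had hae hcd hce' hz hw).symm

/-- One orbit is fixed by all transpositions, and is `Good`. -/
theorem Reduced.exists_common (hr : Reduced G m) (hm : 4 ≤ m) (hR : R.card = m) :
    ∃ x, Good G R x ∧ ∀ a ∈ R, ∀ b ∈ R, a ≠ b → SOrb G R a b x := by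
  obtain ⟨a, ha, b, hb, hab⟩ := Finset.one_lt_card.mp (show 1 < R.card by omega)
  obtain ⟨x, hx⟩ := hr.sorb_exists hN hodd hR ha hb hab
  have hall : ∀ a' ∈ R, ∀ b' ∈ R, a' ≠ b' → SOrb G R a' b' x := by
    have step : ∀ {p q r : α}, p ∈ R → q ∈ R → r ∈ R → p ≠ q → p ≠ r → SOrb G R p q x →
        SOrb G R p r x := by
      intro p q r hp hq hr' hpq hpr hpx
      by_cases hqr : q = r
      · exact hqr ▸ hpx
      obtain ⟨z, hz⟩ := hr.sorb_exists hN hodd hR hp hr' hpr
      have e := hr.sorb_step hN hodd hm hR hp hq hr' hpq hpr hqr hpx hz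
      exact ⟨hx.1, fun g hg hga =>
        (e.map (support_swap_subset hp hr') hg hga).trans ((hz.2 g hg hga).trans e.symm)⟩
    intro a' ha' b' hb' hab'
    by_cases h1 : a' = a
    · subst h1; exact step ha' hb hb' hab hab' hx
    by_cases h2 : a' = b
    · subst h2; exact step ha' ha hb' hab.symm hab' hx.symm
    exact step ha' ha hb' h1 hab' (step ha hb ha' hab (Ne.symm h1) hx).symm
  refine ⟨x, good_of_orb hx.1 fun σ hσ _ => ?_, hall⟩
  obtain ⟨g, hg, hga⟩ := exists_lift hr.trans hr.lt.le hR.le σ
  refine ⟨g, hg, hga, ?_⟩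
  refine supported_induction (R := R) (P := fun σ => ∀ g ∈ G, Agree R g σ → Orb G R (g x) x)
    (fun g hg hga => orb_of_agree (σ := 1) (by simp) hg (one_mem G) hga (fun _ _ => rfl) x)
    ?_ hσ g hg hga
  intro a' ha' b' hb' hab' τ hτ ih g hg hga
  obtain ⟨u, hu, hua⟩ := exists_lift hr.trans hr.lt.le hR.le (swap a' b')
  obtain ⟨v, hv, hva⟩ := exists_lift hr.trans hr.lt.le hR.le τ
  have hsw := support_swap_subset ha' hb'
  exact (orb_of_agree (support_mul_subset hsw hτ) hg (mul_mem hu hv) hga (hua.mul hτ hva) x).trans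
    (((ih v hv hva).map hsw hu hua).trans ((hall a' ha' b' hb' hab').2 u hu hua))

end Cfsg.Agent.PermGp.LivWag
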