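import Cfsg.Agent.Lib.PermGp.LivWag.Bad
import Cfsg.Agent.Lib.PermGp.PrimeDegree
import Cfsg.Agent.S0680

/-! Homogeneous groups that are not transitive enough: small `k`. -/

set_option autoImplicit false
set_option linter.unusedSectionVars false

namespace Cfsg.Agent.PermGp.LivWag

open MulAction Equiv
open scoped Pointwise

variable {α : Type*} [Fintype α] [DecidableEq α] {G : Subgroup (Perm α)} {m : ℕ}

theorem card_fixp_map {A B : Finset α} {g : Perm α} (hg : g ∈ G) (h : ∀ x ∈ A, g x ∈ B)
    (hc : B.card ≤ A.card) : Nat.card (fixp G A) = Nat.card (fixp G B) := by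
  have himg : A.image g = B := Finset.eq_of_subset_of_card_le (Finset.image_subset_iff.mpr h)
    (by rwa [Finset.card_image_of_injective _ g.injective])
  refine Nat.card_congr (((MulAut.conj g).subgroupMap (fixp G A)).toEquiv.trans
    (Equiv.setCongr (Set.ext fun x => ?_)))
  show x ∈ (fixp G A).map (MulAut.conj g).toMonoidHom ↔ x ∈ fixp G B
  rw [Subgroup.mem_map]
  constructor
  · rintro ⟨k, hk, rfl⟩
    refine mem_fixp.mpr ⟨mul_mem (mul_mem hg (mem_fixp.mp hk).1) (inv_mem hg), fun y hy => ?_⟩
    rw [← himg] at hy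
    obtain ⟨z, hz, rfl⟩ := Finset.mem_image.mp hy
    simp [Perm.mul_apply, (mem_fixp.mp hk).2 z hz]
  · intro hx
    refine ⟨g⁻¹ * x * g, mem_fixp.mpr ⟨mul_mem (mul_mem (inv_mem hg) (mem_fixp.mp hx).1) hg,
      fun y hy => ?_⟩, by simp [mul_assoc]⟩
    simp [Perm.mul_apply, (mem_fixp.mp hx).2 _ (h y hy)]

theorem card_eq_descFactorial_mul {j : ℕ} (ht : IsMultiplyPretransitive G α j)
    (hj : j ≤ Fintype.card α) {R : Finset α} (hR : R.card = j) :
    Nat.card G = (Fintype.card α).descFactorial j * Nat.card (fixp G R) := by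
  let e : Fin j ↪ α := ⟨fun i => ((R.equivFinOfCardEq hR).symm i : α),
    fun a b h => (R.equivFinOfCardEq hR).symm.injective (Subtype.ext h)⟩
  have h1 := @card_mul_card_stabilizer G _ (Fin j ↪ α) _ ht e
  rw [← h1, Nat.card_eq_fintype_card, Fintype.card_embedding_eq, Fintype.card_fin]
  congr 1
  let eqv : stabilizer G e ≃ fixp G R :=
    { toFun := fun g => ⟨g.1.1, mem_fixp.mpr ⟨g.1.2, fun x hx => by
        have := DFunLike.congr_fun (MulAction.mem_stabilizer_iff.mp g.2) (R.equivFinOfCardEq hR ⟨x, hx⟩)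
        change (g.1.1 : Perm α) (e (R.equivFinOfCardEq hR ⟨x, hx⟩)) = e (R.equivFinOfCardEq hR ⟨x, hx⟩) at this
        have h1 : (g.1.1 : Perm α) ((R.equivFinOfCardEq hR).symm (R.equivFinOfCardEq hR ⟨x, hx⟩) : α) =
            ((R.equivFinOfCardEq hR).symm (R.equivFinOfCardEq hR ⟨x, hx⟩) : α) := this
        simpa using h1⟩⟩
      invFun := fun h => ⟨⟨h.1, (mem_fixp.mp h.2).1⟩, MulAction.mem_stabilizer_iff.mpr
        (DFunLike.ext _ _ fun i => (mem_fixp.mp h.2).2 _ ((R.equivFinOfCardEq hR).symm i).2)⟩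
      left_inv := fun g => rfl
      right_inv := fun h => rfl }
  exact Nat.card_congr eqv

/-- An invariant set all of whose orbits have length `L` has size divisible by `L`. -/
theorem dvd_card_invariant (K : Subgroup (Perm α)) (L : ℕ) : ∀ (s : Finset α),
    (∀ k ∈ K, ∀ x ∈ s, k x ∈ s) → (∀ x ∈ s, Nat.card (MulAction.orbit K x) = L) → L ∣ s.card := by
  classical
  intro s
  induction s using Finset.strongInduction with
  | H s ih =>
  intro hs hL
  rcases s.eq_empty_or_nonempty with rfl | ⟨x, hx⟩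
  · simp
  set O := (MulAction.orbit K x).toFinset with hO
  have hOc : O.card = L := by
    rw [hO, Set.toFinset_card, ← Nat.card_eq_fintype_card, hL x hx]
  have hOs : O ⊆ s := fun y hy => by
    rw [hO, Set.mem_toFinset] at hy
    obtain ⟨k, rfl⟩ := hy
    exact hs k k.2 x hx
  have hxO : x ∈ O := by rw [hO, Set.mem_toFinset]; exact MulAction.mem_orbit_self x
  have hss : s \ O ⊂ s := Finset.sdiff_ssubset hOs ⟨x, hxO⟩
  have := ih (s \ O) hss (fun k hk y hy => by
    obtain ⟨hys, hyO⟩ := Finset.mem_sdiff.mp hy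
    refine Finset.mem_sdiff.mpr ⟨hs k hk y hys, fun h => hyO ?_⟩
    rw [hO, Set.mem_toFinset] at h ⊢
    rw [← MulAction.orbit_eq_iff.mpr h]
    exact ⟨⟨k⁻¹, inv_mem hk⟩, by show k⁻¹ (k y) = y; simp⟩)
    (fun y hy => hL y (Finset.mem_sdiff.mp hy).1)
  rw [Finset.card_sdiff_of_subset hOs, hOc] at this
  have h1 := Finset.card_le_card hOs
  rw [hOc] at h1
  have := Nat.dvd_add this (dvd_refl L)
  rwa [Nat.sub_add_cancel h1] at this

theorem orbit_mul_fixp_insert (R : Finset α) (x : α) :
    Nat.card (MulAction.orbit (fixp G R) x) * Nat.card (fixp G (insert x R)) = Nat.card (fixp G R) := by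
  classical
  have h := card_orbit_mul_card_stabilizer_eq_card_group (fixp G R) x
  simp only [← Nat.card_eq_fintype_card] at h
  rw [← h]
  congr 1
  let eqv : stabilizer (fixp G R) x ≃ fixp G (insert x R) :=
    { toFun := fun g => ⟨g.1.1, mem_fixp.mpr ⟨(mem_fixp.mp g.1.2).1, fun y hy => by
        rcases Finset.mem_insert.mp hy with rfl | hy
        · exact g.2
        · exact (mem_fixp.mp g.1.2).2 y hy⟩⟩
      invFun := fun h => ⟨⟨h.1, mem_fixp.mpr ⟨(mem_fixp.mp h.2).1, fun y hy =>
          (mem_fixp.mp h.2).2 y (Finset.mem_insert_of_mem hy)⟩⟩,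
        (mem_fixp.mp h.2).2 x (Finset.mem_insert_self x R)⟩
      left_inv := fun g => rfl
      right_inv := fun h => rfl }
  exact (Nat.card_congr eqv).symm

theorem fixp_invariant_compl {R : Finset α} {h : Perm α} (hh : h ∈ fixp G R) {x : α} (hx : x ∉ R) :
    h x ∉ R :=
  (show Agree R h 1 from fun z hz => by simp [(mem_fixp.mp hh).2 z hz]).not_mem (by simp) hx

/-- Not being `(m+1)`-transitive gives two orbits on the outside of some `m`-set. -/
theorem exists_two_orbits (hm : m + 1 < Fintype.card α)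
    (hnt : ¬ IsMultiplyPretransitive G α (m + 1)) :
    ∃ R : Finset α, R.card = m ∧ ∃ x y, x ∉ R ∧ y ∉ R ∧ ¬ Orb G R x y := by
  by_contra hcon
  push Not at hcon
  refine hnt (PermGp.mt_of_fix_card hm fun s hs x y hx hy => ?_)
  obtain ⟨h, hh, e⟩ := hcon s (by omega) x y hx hy
  exact ⟨⟨h, (mem_fixp.mp hh).1⟩, fun z hz => (mem_fixp.mp hh).2 z hz, e⟩

/-- Equal orbit lengths force only the identity to fix more than `m` points. -/
theorem reduced_of_homog (ht : IsMultiplyPretransitive G α m) (hn : m + 2 ≤ Fintype.card α)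
    (hh1 : Homog G (m + 1)) (hh2 : Homog G (m + 2)) (hnt : ¬ IsMultiplyPretransitive G α (m + 1)) :
    Reduced G m := by
  classical
  obtain ⟨R, hR, x, y, hx, hy, hxy⟩ := exists_two_orbits (by omega) hnt
  set q := Nat.card (fixp G (insert x R)) with hq
  have hq0 : 0 < q := Nat.card_pos
  have hq1 : ∀ D : Finset α, D.card = m + 1 → Nat.card (fixp G D) = q := fun D hD => by
    obtain ⟨g, hg, hgm⟩ := hh1 D (insert x R) hD (by rw [Finset.card_insert_of_notMem hx, hR])
    exact card_fixp_map hg hgm (by rw [Finset.card_insert_of_notMem hx, hR, hD])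
  set L := Nat.card (MulAction.orbit (fixp G R) x) with hL
  have hLs : ∀ z, z ∉ R → Nat.card (MulAction.orbit (fixp G R) z) = L := fun z hz => by
    have h1 := orbit_mul_fixp_insert (G := G) R z
    rw [hq1 _ (by rw [Finset.card_insert_of_notMem hz, hR]),
      ← orbit_mul_fixp_insert (G := G) R x, ← hq, ← hL] at h1
    exact Nat.eq_of_mul_eq_mul_right hq0 h1
  set X := insert x R with hXdef
  have hX : X.card = m + 1 := by rw [hXdef, Finset.card_insert_of_notMem hx, hR]
  obtain ⟨w, hw⟩ := Finset.card_pos.mp (show 0 < Xᶜ.card by rw [Finset.card_compl, hX]; omega)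
  rw [Finset.mem_compl] at hw
  set q' := Nat.card (fixp G (insert w X)) with hq'
  have hq2 : ∀ D : Finset α, D.card = m + 2 → Nat.card (fixp G D) = q' := fun D hD => by
    obtain ⟨g, hg, hgm⟩ := hh2 D (insert w X) hD (by rw [Finset.card_insert_of_notMem hw, hX])
    exact card_fixp_map hg hgm (by rw [Finset.card_insert_of_notMem hw, hX, hD])
  have hq'0 : 0 < q' := Nat.card_pos
  set L' := Nat.card (MulAction.orbit (fixp G X) w) with hL'
  have hL's : ∀ z, z ∉ X → Nat.card (MulAction.orbit (fixp G X) z) = L' := fun z hz => by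
    have h1 := orbit_mul_fixp_insert (G := G) X z
    rw [hq2 _ (by rw [Finset.card_insert_of_notMem hz, hX]),
      ← orbit_mul_fixp_insert (G := G) X w, ← hq', ← hL'] at h1
    exact Nat.eq_of_mul_eq_mul_right hq'0 h1
  have hXR : fixp G X ≤ fixp G R := fun h hh => mem_fixp.mpr
    ⟨(mem_fixp.mp hh).1, fun z hz => (mem_fixp.mp hh).2 z (Finset.mem_insert_of_mem hz)⟩
  have horbR : ∀ z, z ∉ R → ∀ u ∈ (MulAction.orbit (fixp G R) z).toFinset, u ∉ R := by
    intro z hz u hu
    rw [Set.mem_toFinset] at hu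
    obtain ⟨k, rfl⟩ := hu
    exact fixp_invariant_compl k.2 hz
  have inv : ∀ z, z ∉ R → ∀ k ∈ fixp G X, ∀ u ∈ (MulAction.orbit (fixp G R) z).toFinset,
      k u ∈ (MulAction.orbit (fixp G R) z).toFinset := by
    intro z _ k hk u hu
    rw [Set.mem_toFinset] at hu ⊢
    obtain ⟨j, rfl⟩ := hu
    exact ⟨⟨k * j.1, mul_mem (hXR hk) j.2⟩, rfl⟩
  have d1 : L' ∣ L - 1 := by
    have := dvd_card_invariant (fixp G X) L' ((MulAction.orbit (fixp G R) x).toFinset.erase x)
      (fun k hk u hu => by
        obtain ⟨hux, hu⟩ := Finset.mem_erase.mp hu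
        refine Finset.mem_erase.mpr ⟨fun e => hux ?_, inv x hx k hk u hu⟩
        exact k.injective (e.trans ((mem_fixp.mp hk).2 x (Finset.mem_insert_self x R)).symm))
      (fun u hu => by
        obtain ⟨hux, hu⟩ := Finset.mem_erase.mp hu
        refine hL's u ?_
        rw [hXdef, Finset.mem_insert, not_or]
        exact ⟨hux, horbR x hx u hu⟩)
    rwa [Finset.card_erase_of_mem (Set.mem_toFinset.mpr (MulAction.mem_orbit_self x)),
      Set.toFinset_card, ← Nat.card_eq_fintype_card] at this
  have d2 : L' ∣ L := by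
    have := dvd_card_invariant (fixp G X) L' ((MulAction.orbit (fixp G R) y).toFinset)
      (inv y hy)
      (fun u hu => by
        refine hL's u ?_
        rw [hXdef, Finset.mem_insert, not_or]
        refine ⟨?_, horbR y hy u hu⟩
        rintro rfl
        rw [Set.mem_toFinset] at hu
        obtain ⟨k, hk⟩ := hu
        exact hxy (Orb.symm ⟨k, k.2, hk⟩))
    rwa [Set.toFinset_card, ← Nat.card_eq_fintype_card, hLs y hy] at this
  have hL0 : 0 < L := by
    have := orbit_mul_fixp_insert (G := G) R x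
    rw [← hL] at this
    have hp : 0 < Nat.card (fixp G R) := Nat.card_pos
    rw [← this] at hp
    exact Nat.pos_of_mul_pos_right hp
  have hL1 : L' = 1 := by
    have := Nat.dvd_sub d2 d1
    rw [show L - (L - 1) = 1 by omega] at this
    exact Nat.dvd_one.mp this
  have htriv : ∀ h ∈ fixp G X, h = 1 := by
    intro h hh
    ext z
    by_cases hz : z ∈ X
    · exact (mem_fixp.mp hh).2 z hz
    · have := hL's z hz
      rw [hL1, Nat.card_eq_one_iff_unique] at this
      exact congrArg Subtype.val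
        (this.1.elim ⟨h z, ⟨h, hh⟩, rfl⟩ ⟨z, MulAction.mem_orbit_self z⟩)
  have hq_one : q = 1 := by
    rw [hq, Subgroup.card_eq_one]
    exact (Subgroup.eq_bot_iff_forall _).mpr htriv
  refine ⟨ht, by omega, fun g hg S hS hfix => ?_⟩
  obtain ⟨D, hDS, hD⟩ := Finset.exists_subset_card_eq (s := S) (n := m + 1) hS
  have := hq1 D hD
  rw [hq_one, Subgroup.card_eq_one] at this
  have hmem : g ∈ fixp G D := mem_fixp.mpr ⟨hg, fun z hz => hfix z (hDS hz)⟩
  rwa [this, Subgroup.mem_bot] at hmem

/-- A homogeneous group is transitive on the subsets, so its order is a multiple of their number. -/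
theorem card_eq_choose_mul {j : ℕ} (hh : Homog G j) {D : Finset α} (hD : D.card = j) :
    ∃ K : Subgroup G, Nat.card G = (Fintype.card α).choose j * Nat.card K ∧
      ∀ g : G, g ∈ K ↔ ∀ x ∈ D, (g : Perm α) x ∈ D := by
  classical
  have hpre : IsPretransitive G (Set.powersetCard α j) := ⟨fun A B => by
    obtain ⟨g, hg, hgm⟩ := hh A.1 B.1 A.2 B.2
    refine ⟨⟨g, hg⟩, Subtype.ext (Finset.eq_of_subset_of_card_le (fun y hy => ?_)
      (B.2.trans ((⟨g, hg⟩ : G) • A).2.symm).le)⟩
    obtain ⟨z, hz, rfl⟩ := Finset.mem_smul_finset.mp hy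
    exact hgm z hz⟩
  refine ⟨stabilizer G (⟨D, hD⟩ : Set.powersetCard α j), ?_, fun g => ?_⟩
  · rw [← card_mul_card_stabilizer (G := G) (⟨D, hD⟩ : Set.powersetCard α j), Set.powersetCard.card,
      Nat.card_eq_fintype_card (α := α)]
  · rw [MulAction.mem_stabilizer_iff]
    constructor
    · intro h x hx
      have h' : g • D = D := congrArg Subtype.val h
      rw [← h']
      exact Finset.smul_mem_smul_finset hx
    · intro h
      refine Subtype.ext (Finset.eq_of_subset_of_card_le (fun y hy => ?_)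
        (hD.trans (g • (⟨D, hD⟩ : Set.powersetCard α j)).2.symm).le)
      obtain ⟨z, hz, rfl⟩ := Finset.mem_smul_finset.mp hy
      exact h z hz

theorem cases_two {r l : ℕ} (hl : 0 < l) (hr : 2 ≤ r) (hN : 3 ≤ r * l) (h1 : r ∣ 6)
    (h2 : r * (r * l - 1) ∣ 24) : (r = 2 ∧ l = 2) ∨ (r = 3 ∧ l = 1) ∨ (r = 3 ∧ l = 3) := by
  have hr6 : r ≤ 6 := Nat.le_of_dvd (by norm_num) h1
  have h3 := Nat.le_of_dvd (by norm_num) h2
  have hl2 : 2 * l ≤ r * l := Nat.mul_le_mul_right l hr
  have : r * l - 1 ≤ 12 := by nlinarith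
  have hl13 : l ≤ 13 := by omega
  interval_cases r <;> interval_cases l <;> revert hN h1 h2 <;> decide

theorem cases_three {r l : ℕ} (hl : 0 < l) (hr : 2 ≤ r) (hN : 3 ≤ r * l) (h1 : r ∣ 24)
    (h2 : r * (r * l - 1) ∣ 120) : (r = 2 ∧ (l = 2 ∨ l = 3 ∨ l = 8)) ∨
      (r = 3 ∧ (l = 1 ∨ l = 2 ∨ l = 3 ∨ l = 7)) ∨ (r = 4 ∧ (l = 1 ∨ l = 4)) ∨ (r = 6 ∧ l = 1) ∨
      (r = 8 ∧ l = 2) := by
  have h3 := Nat.le_of_dvd (by norm_num) h2
  have hb : ∀ r' ∈ List.range 25, ∀ l' ∈ List.range 32, 2 ≤ r' → 3 ≤ r' * l' → r' ∣ 24 → r' * (r' * l' - 1) ∣ 120 →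
      (r', l') ∈ [(2, 2), (2, 3), (2, 8), (3, 1), (3, 2), (3, 3), (3, 7), (4, 1), (4, 4), (6, 1), (8, 2)] := by
    decide +kernel
  have key : (r, l) ∈ [(2, 2), (2, 3), (2, 8), (3, 1), (3, 2), (3, 3), (3, 7), (4, 1), (4, 4), (6, 1), (8, 2)] := by
    refine hb r (List.mem_range.mpr (by have := Nat.le_of_dvd (by norm_num) h1; omega)) l (List.mem_range.mpr ?_) hr hN h1 h2
    have : r * l - 1 ≤ 60 := by nlinarith
    have : 2 * l ≤ r * l := Nat.mul_le_mul_right l hr
    omega
  simp only [List.mem_cons, List.not_mem_nil, or_false, Prod.mk.injEq] at key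
  omega

/-- No transitive group of degree 11 and order 330, nor of degree 23 and order 3542. -/
theorem prime_degree_excluded {β : Type*} [Fintype β] [DecidableEq β] (X : Subgroup (Perm β))
    [IsPretransitive X β]
    (h : (Fintype.card β = 11 ∧ Nat.card X = 330) ∨ (Fintype.card β = 23 ∧ Nat.card X = 3542)) :
    False := by
  rcases h with ⟨h1, h2⟩ | ⟨h1, h2⟩
  · haveI : Fact (Nat.Prime 11) := ⟨by norm_num⟩
    obtain ⟨P⟩ := Sylow.nonempty (p := 11) (G := X)
    obtain ⟨d, hd, he, hmod⟩ := PermGp.card_eq_mul_sylow h1 X P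
    rw [h2] at he
    have hd' : d ≤ 10 := Nat.le_of_dvd (by norm_num) hd
    interval_cases d <;> omega
  · haveI : Fact (Nat.Prime 23) := ⟨by norm_num⟩
    obtain ⟨P⟩ := Sylow.nonempty (p := 23) (G := X)
    obtain ⟨d, hd, he, hmod⟩ := PermGp.card_eq_mul_sylow h1 X P
    rw [h2] at he
    have hd' : d ≤ 22 := Nat.le_of_dvd (by norm_num) hd
    interval_cases d <;> omega

/-- The restriction of a pointwise stabiliser to the other points. -/
theorem outside_image (hr : Reduced G m) {R₀ : Finset α} (hR₀ : R₀.card < m)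
    (h2 : R₀.card + 2 ≤ m) :
    ∃ X : Subgroup (Perm {x // x ∉ R₀}), Nat.card X = Nat.card (fixp G R₀) ∧
      IsMultiplyPretransitive X {x // x ∉ R₀} 2 ∧ IsPretransitive X {x // x ∉ R₀} ∧
      ∀ π ∈ X, ∃ g ∈ fixp G R₀, ∀ x : {x // x ∉ R₀}, ((π x : {x // x ∉ R₀}) : α) = g x := by
  classical
  letI := outsideAction G R₀
  set f := MulAction.toPermHom (fixp G R₀) {x // x ∉ R₀}
  have hinj : Function.Injective f := by
    intro g g' he
    refine Subtype.ext (Equiv.ext fun x => ?_)
    by_cases hx : x ∈ R₀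
    · rw [(mem_fixp.mp g.2).2 x hx, (mem_fixp.mp g'.2).2 x hx]
    · exact congrArg (fun p : Perm {x // x ∉ R₀} => ((p ⟨x, hx⟩ : {x // x ∉ R₀}) : α)) he
  have h2t : IsMultiplyPretransitive f.range {x // x ∉ R₀} 2 := by
    refine ⟨fun e e' => ?_⟩
    obtain ⟨g, hg, hge⟩ := exists_map_fix hr.trans hr.lt.le (R₀ := R₀) h2
      (e.trans (Function.Embedding.subtype _)) (e'.trans (Function.Embedding.subtype _))
      (fun i => (e i).2) (fun i => (e' i).2)
    exact ⟨⟨f ⟨g, hg⟩, ⟨_, rfl⟩⟩, DFunLike.ext _ _ fun i => Subtype.ext (hge i)⟩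
  refine ⟨f.range, (Nat.card_congr (MonoidHom.ofInjective hinj).toEquiv).symm, h2t, ?_, ?_⟩
  · haveI : IsMultiplyPretransitive f.range {x // x ∉ R₀} 2 := h2t
    exact isPretransitive_of_is_two_pretransitive
  · rintro π ⟨g, rfl⟩
    exact ⟨g.1, g.2, fun x => rfl⟩

theorem descFactorial_add_two (n m : ℕ) :
    n.descFactorial (m + 2) = (n - (m + 1)) * ((n - m) * n.descFactorial m) := by
  rw [Nat.descFactorial_succ, Nat.descFactorial_succ]

/-- The exceptions for `k = 4, 5`. -/
theorem small_exceptions (ht : IsMultiplyPretransitive G α m) (hm : m = 2 ∨ m = 3)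
    (hn : m + 2 < Fintype.card α) (hh1 : Homog G (m + 1)) (hh2 : Homog G (m + 2))
    (hnt : ¬ IsMultiplyPretransitive G α (m + 1)) :
    (m = 2 ∧ Fintype.card α = 5 ∧ Nat.card G = 20) ∨ (m = 3 ∧ Fintype.card α = 6 ∧ Nat.card G = 120) ∨
      (m = 3 ∧ Fintype.card α = 9 ∧ (Nat.card G = 504 ∨ Nat.card G = 1512)) := by
  classical
  have hr := reduced_of_homog ht (by omega) hh1 hh2 hnt
  obtain ⟨R, hR, x, y, hx, hy, hxy⟩ := exists_two_orbits (by omega) hnt
  set l := Nat.card (fixp G R) with hl
  have hl0 : 0 < l := Nat.card_pos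
  have horb : ∀ z, z ∉ R → Nat.card (MulAction.orbit (fixp G R) z) = l := fun z hz => by
    have := orbit_mul_fixp_insert (G := G) R z
    have h1 : fixp G (insert z R) = ⊥ := (Subgroup.eq_bot_iff_forall _).mpr fun h hh =>
      hr.eq_one h (mem_fixp.mp hh).1 (insert z R)
        (by rw [Finset.card_insert_of_notMem hz, hR]) (mem_fixp.mp hh).2
    rwa [h1, Subgroup.card_bot, mul_one] at this
  obtain ⟨r, hr'⟩ : l ∣ Rᶜ.card := dvd_card_invariant (fixp G R) l Rᶜ
    (fun k hk z hz => Finset.mem_compl.mpr (fixp_invariant_compl hk (Finset.mem_compl.mp hz)))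
    (fun z hz => horb z (Finset.mem_compl.mp hz))
  rw [mul_comm] at hr'
  have hN : Rᶜ.card = Fintype.card α - m := by rw [Finset.card_compl, hR]
  set n := Fintype.card α with hn'
  have hr2 : 2 ≤ r := by
    obtain ⟨sx, cx, ux, mx⟩ := hr.orb_image_card hR hx
    obtain ⟨sy, cy, uy, my⟩ := hr.orb_image_card hR hy
    have hd : Disjoint sx sy := Finset.disjoint_left.mpr fun w h1 h2 =>
      hxy (((mx w).mp h1).trans ((my w).mp h2).symm)
    have := Finset.card_le_card (Finset.union_subset ux uy)
    rw [Finset.card_union_of_disjoint hd, cx, cy, hr', ← hl] at this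
    by_contra h
    have : r * l ≤ 1 * l := Nat.mul_le_mul_right l (by omega)
    omega
  have hG := card_eq_descFactorial_mul ht (by omega) hR
  rw [← hl, ← hn'] at hG
  have hD0 : 0 < n.descFactorial m := Nat.descFactorial_pos.mpr (by omega)
  obtain ⟨D, -, hD⟩ := Finset.exists_subset_card_eq (s := (Finset.univ : Finset α)) (n := m + 1)
    (by rw [Finset.card_univ]; omega)
  obtain ⟨K, hK, hKmem⟩ := card_eq_choose_mul hh1 hD
  obtain ⟨E, -, hE⟩ := Finset.exists_subset_card_eq (s := (Finset.univ : Finset α)) (n := m + 2)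
    (by rw [Finset.card_univ]; omega)
  obtain ⟨K₂, hK₂, -⟩ := card_eq_choose_mul hh2 hE
  have eK : (m + 1).factorial = r * Nat.card K := by
    have h1 : n.descFactorial m * l * (m + 1).factorial = n.descFactorial m * l * (r * Nat.card K) := by
      calc n.descFactorial m * l * (m + 1).factorial
          = (m + 1).factorial * (n.choose (m + 1) * Nat.card K) := by rw [← hG, ← hK]; ring
        _ = (n - m) * n.descFactorial m * Nat.card K := by
          rw [← mul_assoc, ← Nat.descFactorial_eq_factorial_mul_choose, Nat.descFactorial_succ]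
        _ = _ := by rw [← hN, hr']; ring
    exact Nat.eq_of_mul_eq_mul_left (Nat.mul_pos hD0 hl0) h1
  have eK₂ : (m + 2).factorial = r * (r * l - 1) * Nat.card K₂ := by
    have h1 : n.descFactorial m * l * (m + 2).factorial =
        n.descFactorial m * l * (r * (r * l - 1) * Nat.card K₂) := by
      calc n.descFactorial m * l * (m + 2).factorial
          = (m + 2).factorial * (n.choose (m + 2) * Nat.card K₂) := by rw [← hG, ← hK₂]; ring
        _ = (n - (m + 1)) * ((n - m) * n.descFactorial m) * Nat.card K₂ := by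
          rw [← mul_assoc, ← Nat.descFactorial_eq_factorial_mul_choose, descFactorial_add_two]
        _ = _ := by
          rw [show n - (m + 1) = n - m - 1 by omega, ← hN, hr']; ring
    exact Nat.eq_of_mul_eq_mul_left (Nat.mul_pos hD0 hl0) h1
  have hnval : n = r * l + m := by omega
  -- an even pointwise stabiliser forces two orbits and a transposition
  have heven : Even l → r = 2 → False := by
    intro he hr2'
    obtain ⟨z, hz⟩ := exists_prime_orderOf_dvd_card' 2 (G := fixp G R) (even_iff_two_dvd.mp he)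
    have hz2 : (z : Perm α) * z = 1 := by
      have := pow_orderOf_eq_one z
      rw [hz, pow_two] at this
      exact congrArg Subtype.val this
    have hz1 : (z : Perm α) ≠ 1 := fun e => by
      rw [show z = 1 from Subtype.ext e, orderOf_one] at hz
      omega
    obtain ⟨p, hp⟩ : ∃ p, (z : Perm α) p ≠ p := by
      by_contra hcon
      push Not at hcon
      exact hz1 (Equiv.ext hcon)
    obtain ⟨T, hTR, hT⟩ := Finset.exists_subset_card_eq (s := R) (n := m - 1) (by omega)
    have hzp : (z : Perm α) ((z : Perm α) p) = p := by rw [← Perm.mul_apply, hz2, Perm.one_apply]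
    have hTfix : ∀ u ∈ T, (z : Perm α) u = u := fun u hu => (mem_fixp.mp z.2).2 u (hTR hu)
    have h1 : p ∉ T := fun h => hp (hTfix p h)
    have h2 : (z : Perm α) p ∉ T := fun h => hp ((z : Perm α).injective (hTfix _ h))
    set Δ := insert p (insert ((z : Perm α) p) T) with hΔdef
    have hΔ : Δ.card = m + 1 := by
      rw [hΔdef, Finset.card_insert_of_notMem (by simp [hp.symm, h1]), Finset.card_insert_of_notMem h2]
      omega
    obtain ⟨K', hK', hK'mem⟩ := card_eq_choose_mul hh1 hΔ
    have hKK : Nat.card K' = Nat.card K :=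
      Nat.eq_of_mul_eq_mul_left (Nat.choose_pos (by omega)) (hK'.symm.trans hK)
    have hzΔ : ∀ u ∈ Δ, (z : Perm α) u ∈ Δ := fun u hu => by
      simp only [hΔdef, Finset.mem_insert] at hu ⊢
      rcases hu with rfl | rfl | hu
      · exact Or.inr (Or.inl rfl)
      · exact Or.inl hzp
      · exact Or.inr (Or.inr (by rw [hTfix u hu]; exact hu))
    let zK : K' := ⟨⟨z.1, (mem_fixp.mp z.2).1⟩, (hK'mem _).mpr hzΔ⟩
    have hord : orderOf zK = 2 := orderOf_eq_prime
      (by refine Subtype.ext (Subtype.ext ?_); simpa [zK, pow_two] using hz2)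
      (fun e => hz1 (congrArg (fun w : K' => ((w : G) : Perm α)) e))
    rcases hm with rfl | rfl
    · have : Nat.card K = 3 := by rw [hr2', show Nat.factorial (2 + 1) = 6 from rfl] at eK; omega
      have h3 := orderOf_dvd_natCard zK
      rw [hord, hKK, this] at h3
      norm_num at h3
    · have h12 : Nat.card K = 12 := by rw [hr2', show Nat.factorial (3 + 1) = 24 from rfl] at eK; omega
      let f : K' →* Perm Δ :=
        { toFun := fun g =>
            { toFun := fun u => ⟨((g : G) : Perm α) u, (hK'mem g.1).mp g.2 u u.2⟩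
              invFun := fun u => ⟨((g⁻¹ : K') : G).1 u, (hK'mem _).mp (g⁻¹ : K').2 u u.2⟩
              left_inv := fun u => Subtype.ext (by simp)
              right_inv := fun u => Subtype.ext (by simp) }
          map_one' := Equiv.ext fun u => Subtype.ext rfl
          map_mul' := fun g g' => Equiv.ext fun u => Subtype.ext rfl }
      have hfinj : Function.Injective f := by
        refine (injective_iff_map_eq_one f).mpr fun g hg => Subtype.ext (Subtype.ext ?_)
        exact hr.eq_one _ (g : G).2 Δ hΔ.ge fun u hu =>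
          congrArg (fun w : Perm Δ => ((w ⟨u, hu⟩ : Δ) : α)) hg
      have hrange : Nat.card f.range = 12 := by
        rw [← Nat.card_congr (MonoidHom.ofInjective hfinj).toEquiv, hKK, h12]
      haveI : Nontrivial Δ := Fintype.one_lt_card_iff_nontrivial.mp (by rw [Fintype.card_coe]; omega)
      have hidx : f.range.index = 2 := by
        have := Subgroup.card_mul_index f.range
        rw [hrange, Nat.card_perm, Nat.card_eq_fintype_card (α := Δ), Fintype.card_coe, hΔ,
          show Nat.factorial (3 + 1) = 24 from rfl] at this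
        omega
      have halt := Equiv.Perm.eq_alternatingGroup_of_index_eq_two hidx
      have hfz : f zK ∈ alternatingGroup Δ := halt ▸ ⟨zK, rfl⟩
      have hpΔ : p ∈ Δ := Finset.mem_insert_self _ _
      have hzpΔ : (z : Perm α) p ∈ Δ := Finset.mem_insert_of_mem (Finset.mem_insert_self _ _)
      have hsw : f zK = swap ⟨p, hpΔ⟩ ⟨_, hzpΔ⟩ := by
        refine Equiv.ext fun u => Subtype.ext ?_
        show (z : Perm α) u = _
        have hu := u.2
        simp only [hΔdef, Finset.mem_insert] at hu
        rcases hu with hu | hu | hu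
        · rw [show u = ⟨p, hpΔ⟩ from Subtype.ext hu, swap_apply_left]
        · rw [show u = ⟨_, hzpΔ⟩ from Subtype.ext hu, swap_apply_right]
          exact hzp
        · rw [swap_apply_of_ne_of_ne (fun e => h1 (by rw [← show (u : α) = p from congrArg Subtype.val e]; exact hu))
            (fun e => h2 (by rw [← show (u : α) = (z : Perm α) p from congrArg Subtype.val e]; exact hu)),
            hTfix _ hu]
      rw [Perm.mem_alternatingGroup, hsw, Perm.sign_swap (fun e => hp (congrArg Subtype.val e).symm)] at hfz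
      exact absurd hfz (by decide)
  have heven' : Even l → r = 2 := by
    intro he
    have htwo := hr.twoOrb_of_even (by omega) hR he
    obtain ⟨sx, cx, ux, mx⟩ := hr.orb_image_card hR hx
    obtain ⟨sy, cy, uy, my⟩ := hr.orb_image_card hR hy
    have hd : Disjoint sx sy := Finset.disjoint_left.mpr fun w h1 h2 =>
      hxy (((mx w).mp h1).trans ((my w).mp h2).symm)
    have hsub : Rᶜ ⊆ sx ∪ sy := fun w hw => by
      rw [Finset.mem_union]
      rcases htwo x y w hx hy (Finset.mem_compl.mp hw) with h | h | h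
      · exact absurd h hxy
      · exact Or.inr ((my w).mpr h)
      · exact Or.inl ((mx w).mpr h)
    have := Finset.card_le_card hsub
    rw [Finset.card_union_of_disjoint hd, cx, cy, hr', ← hl] at this
    by_contra h
    have : 3 * l ≤ r * l := Nat.mul_le_mul_right l (by omega)
    omega
  have hdeg : ∀ R₀ : Finset α, R₀.card + 2 = m →
      ((r * l + 2 = 11 ∧ l = 3) ∨ (r * l + 2 = 23 ∧ l = 7)) → False := by
    intro R₀ hR₀ hcase
    obtain ⟨X, hX, h2t, htX, -⟩ := outside_image hr (R₀ := R₀) (by omega) (by omega)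
    have hβ : Fintype.card {x // x ∉ R₀} = r * l + 2 := by
      rw [Fintype.card_subtype_compl, Fintype.card_coe]; omega
    haveI := htX
    haveI := ht
    have hG0 := card_eq_descFactorial_mul (G := G) (isMultiplyPretransitive_of_le (G := G) (n := m)
      (show R₀.card ≤ m by omega) (by rw [Nat.card_eq_fintype_card]; omega)) (by omega) (R := R₀) rfl
    rw [hG, ← hn', ← hX, hnval] at hG0
    refine prime_degree_excluded X ?_
    rcases hcase with ⟨h1, h2⟩ | ⟨h1, h2⟩
    · left
      refine ⟨by omega, ?_⟩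
      have h9 : r * l = 9 := by omega
      rw [h9, h2] at hG0
      rcases hm with rfl | rfl
      · rw [show R₀.card = 0 by omega] at hG0
        norm_num [Nat.descFactorial] at hG0 ⊢
        omega
      · rw [show R₀.card = 1 by omega] at hG0
        norm_num [Nat.descFactorial] at hG0 ⊢
        omega
    · right
      refine ⟨by omega, ?_⟩
      have h21 : r * l = 21 := by omega
      rw [h21, h2] at hG0
      rcases hm with rfl | rfl
      · rw [show R₀.card = 0 by omega] at hG0
        norm_num [Nat.descFactorial] at hG0 ⊢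
        omega
      · rw [show R₀.card = 1 by omega] at hG0
        norm_num [Nat.descFactorial] at hG0 ⊢
        omega
  obtain ⟨R₀, -, hR₀⟩ := Finset.exists_subset_card_eq (s := (Finset.univ : Finset α)) (n := m - 2)
    (by rw [Finset.card_univ]; omega)
  have hN3 : 3 ≤ r * l := by omega
  have hd1 : r ∣ (m + 1).factorial := eK ▸ dvd_mul_right r _
  have hd2 : r * (r * l - 1) ∣ (m + 2).factorial := eK₂ ▸ dvd_mul_right _ _
  rcases hm with rfl | rfl
  · rcases cases_two hl0 hr2 hN3 hd1 hd2 with ⟨rfl, e⟩ | ⟨rfl, e⟩ | ⟨rfl, e⟩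
    · exact absurd rfl (fun h => heven ⟨1, e⟩ h)
    · left
      rw [hnval, e] at hG
      exact ⟨rfl, by omega, by rw [hG]; rfl⟩
    · exact (hdeg R₀ (by omega) (Or.inl ⟨by omega, e⟩)).elim
  · rcases cases_three hl0 hr2 hN3 hd1 hd2 with ⟨rfl, e | e | e⟩ | ⟨rfl, e | e | e | e⟩ | ⟨rfl, e | e⟩ |
      ⟨rfl, e⟩ | ⟨rfl, e⟩
    · exact absurd rfl (fun h => heven ⟨1, e⟩ h)
    · right; right
      rw [hnval, e] at hG
      exact ⟨rfl, by omega, Or.inr (by rw [hG]; rfl)⟩
    · exact absurd rfl (fun h => heven ⟨4, e⟩ h)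
    · right; left
      rw [hnval, e] at hG
      exact ⟨rfl, by omega, by rw [hG]; rfl⟩
    · have := heven' ⟨1, e⟩; omega
    · exact (hdeg R₀ (by omega) (Or.inl ⟨by omega, e⟩)).elim
    · exact (hdeg R₀ (by omega) (Or.inr ⟨by omega, e⟩)).elim
    · -- degree seven: a sharply two-transitive group of degree six
      exfalso
      obtain ⟨X, -, h2t, -, hXg⟩ := outside_image hr (R₀ := R₀) (by omega) (by omega)
      haveI := h2t
      have hβ : Fintype.card {x // x ∉ R₀} = 6 := by
        rw [Fintype.card_subtype_compl, Fintype.card_coe]; omega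
      have hsharp : ∀ v : Fin 2 ↪ {x // x ∉ R₀}, MulAction.stabilizer X v = ⊥ := by
        intro v
        refine (Subgroup.eq_bot_iff_forall _).mpr fun π hπ => ?_
        obtain ⟨g, hg, hgx⟩ := hXg π.1 π.2
        let v' : Fin 2 ↪ α := v.trans (Function.Embedding.subtype _)
        have hR' : (R₀ ∪ Finset.univ.map v').card = 3 := by
          rw [Finset.card_union_of_disjoint, Finset.card_map, Finset.card_univ, Fintype.card_fin, hR₀]
          refine Finset.disjoint_right.mpr fun u hu => ?_
          obtain ⟨i, -, rfl⟩ := Finset.mem_map.mp hu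
          exact (v i).2
        have h0 := card_fixp_eq hr.trans hr.lt.le hR' hR
        rw [← hl, e, Subgroup.card_eq_one] at h0
        have hmem : g ∈ fixp G (R₀ ∪ Finset.univ.map v') := by
          refine mem_fixp.mpr ⟨(mem_fixp.mp hg).1, fun u hu => ?_⟩
          rcases Finset.mem_union.mp hu with hu | hu
          · exact (mem_fixp.mp hg).2 u hu
          · obtain ⟨i, -, rfl⟩ := Finset.mem_map.mp hu
            refine (hgx (v i)).symm.trans (congrArg Subtype.val ?_)
            exact DFunLike.congr_fun (MulAction.mem_stabilizer_iff.mp hπ) i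
        rw [h0, Subgroup.mem_bot] at hmem
        exact Subtype.ext (Equiv.ext fun u => Subtype.ext (by rw [hgx u, hmem]; rfl))
      obtain ⟨p, j, hp, hj, hpow, -⟩ := Cfsg.Agent.S0680.result X hsharp (by omega)
      rw [hβ] at hpow
      have hp6 : p ≤ 6 := Nat.le_of_dvd (by norm_num) (hpow ▸ dvd_pow_self p (by omega))
      have h6 : p ∣ 6 := hpow ▸ dvd_pow_self p (by omega)
      have hj3 : j ≤ 2 := by
        by_contra h
        have := Nat.pow_le_pow_left hp.two_le j
        have := Nat.pow_le_pow_right (show 0 < 2 by norm_num) (show 3 ≤ j by omega)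
        omega
      interval_cases p <;> interval_cases j <;> first | omega | (norm_num at hp)
    · have := heven' ⟨2, e⟩; omega
    · right; right
      rw [hnval, e] at hG
      exact ⟨rfl, by omega, Or.inl (by rw [hG]; rfl)⟩
    · have := heven' ⟨1, e⟩; omega

end Cfsg.Agent.PermGp.LivWag
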