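import Cfsg.Agent.Lib.PermGp.LivWag.Classify

/-! The orbit fixed by the transpositions of `R`, when the outside is odd. -/

set_option autoImplicit false
set_option linter.unusedSectionVars false

namespace Cfsg.Agent.PermGp.LivWag

open MulAction Equiv

variable {α : Type*} [Fintype α] [DecidableEq α] {G : Subgroup (Perm α)} {m : ℕ} {R : Finset α}

theorem sq_eq_one_odd (hodd : Odd (Nat.card (fixp G R))) {h : Perm α} (hh : h ∈ fixp G R)
    (h2 : h * h = 1) : h = 1 := by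
  obtain ⟨c, hc⟩ := hodd
  have := congrArg Subtype.val (pow_card_eq_one' (x := (⟨h, hh⟩ : fixp G R)))
  simpa [hc, pow_succ, pow_mul, pow_two, h2] using this

theorem exists_sqrt_odd (hodd : Odd (Nat.card (fixp G R))) {h : Perm α} (hh : h ∈ fixp G R) :
    ∃ k ∈ fixp G R, k * k = h := by
  obtain ⟨c, hc⟩ := hodd
  refine ⟨h ^ (c + 1), pow_mem hh _, ?_⟩
  have := congrArg Subtype.val (pow_card_eq_one' (x := (⟨h, hh⟩ : fixp G R)))
  simp only [SubgroupClass.coe_pow, hc, OneMemClass.coe_one] at this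
  rw [← pow_add, show c + 1 + (c + 1) = 2 * c + 1 + 1 by omega, pow_succ, this, one_mul]

theorem Reduced.eq_of_agree (hr : Reduced G m) (h1 : Nat.card (fixp G R) = 1) {g g' σ : Perm α}
    (hg : g ∈ G) (hg' : g' ∈ G) (ha : Agree R g σ) (ha' : Agree R g' σ) : g = g' := by
  have hmem := inv_mul_mem_fixp hg hg' ha ha'
  rw [Subgroup.card_eq_one] at h1
  rw [h1, Subgroup.mem_bot] at hmem
  exact inv_mul_eq_one.mp hmem

theorem eq_of_orb (h1 : Nat.card (fixp G R) = 1) {x y : α} (h : Orb G R x y) : x = y := by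
  obtain ⟨k, hk, e⟩ := h
  rw [Subgroup.card_eq_one] at h1
  rw [h1, Subgroup.mem_bot] at hk
  simpa [hk] using e

/-- At most `m` points are fixed by a lift of a nontrivial permutation. -/
theorem Reduced.fix_add_le (hr : Reduced G m) {t σ : Perm α} (ht : t ∈ G) (ha : Agree R t σ)
    {x : α} (hx : x ∈ R) (hne : σ x ≠ x) :
    (R.filter fun y => σ y = y).card + (Rᶜ.filter fun y => t y = y).card ≤ m := by
  by_contra hlt
  have h1 := hr.eq_one t ht ((R.filter fun y => σ y = y) ∪ (Rᶜ.filter fun y => t y = y))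
    (by
      rw [Finset.card_union_of_disjoint]
      · omega
      · exact Finset.disjoint_left.mpr fun y h1 h2 =>
          Finset.mem_compl.mp (Finset.mem_filter.mp h2).1 (Finset.mem_filter.mp h1).1)
    fun y hy => by
      rcases Finset.mem_union.mp hy with hy | hy
      · obtain ⟨hyR, hye⟩ := Finset.mem_filter.mp hy
        rw [ha y hyR, hye]
      · exact (Finset.mem_filter.mp hy).2
  apply hne
  rw [← ha x hx, h1, Perm.one_apply]

theorem Reduced.fix_swap_le (hr : Reduced G m) (hR : R.card = m) {t : Perm α} {a b : α}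
    (ha : a ∈ R) (hb : b ∈ R) (hab : a ≠ b) (ht : t ∈ G) (hta : Agree R t (swap a b)) :
    (Rᶜ.filter fun y => t y = y).card ≤ 2 := by
  have h := hr.fix_add_le ht hta ha (by rw [swap_apply_left]; exact hab.symm)
  have h2 : (R.erase a).erase b ⊆ R.filter fun y => swap a b y = y := fun y hy => by
    obtain ⟨hyb, hy'⟩ := Finset.mem_erase.mp hy
    obtain ⟨hya, hyR⟩ := Finset.mem_erase.mp hy'
    exact Finset.mem_filter.mpr ⟨hyR, swap_apply_of_ne_of_ne hya hyb⟩
  have hc := Finset.card_le_card h2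
  rw [Finset.card_erase_of_mem (Finset.mem_erase.mpr ⟨hab.symm, hb⟩),
    Finset.card_erase_of_mem ha] at hc
  have : 2 ≤ R.card := Finset.one_lt_card.mpr ⟨a, ha, b, hb, hab⟩
  omega

/-- An involution with one or two fixed outside points inverts the pointwise stabiliser. -/
theorem Reduced.inverts (hr : Reduced G m) (hR : R.card = m) (hodd : Odd (Nat.card (fixp G R)))
    {t σ : Perm α} (hσ : σ.support ⊆ R) (ht : t ∈ G) (ha : Agree R t σ) (h2 : t * t = 1) {x : α}
    (hx : x ∈ Rᶜ.filter fun y => t y = y) (hle : (Rᶜ.filter fun y => t y = y).card ≤ 2) :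
    ∀ h ∈ fixp G R, t * h * t = h⁻¹ := by
  have hti : t⁻¹ = t := inv_eq_of_mul_eq_one_right h2
  refine inverts_of_fpf h2 (fun h hh => by simpa [hti] using conj_mem_fixp hσ ht ha hh)
    fun h hh hcom => ?_
  have hxR : x ∉ R := Finset.mem_compl.mp (Finset.mem_filter.mp hx).1
  have htx : ∀ y ∈ Rᶜ.filter (fun y => t y = y), h y ∈ Rᶜ.filter (fun y => t y = y) := by
    intro y hy
    obtain ⟨hyR, hty⟩ := Finset.mem_filter.mp hy
    refine Finset.mem_filter.mpr ⟨Finset.mem_compl.mpr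
      ((show Agree R h 1 from fun z hz => by simp [(mem_fixp.mp hh).2 z hz]).not_mem (by simp)
        (Finset.mem_compl.mp hyR)), ?_⟩
    have := congrArg (fun p : Perm α => p y) hcom
    simp only [Perm.mul_apply, hty] at this
    exact this
  by_contra hne
  have e1 : h x ≠ x := fun e => hne (hr.semireg hR hh hxR e)
  have e2 : h (h x) ≠ h x := fun e => e1 (h.injective e)
  have e3 : h (h x) ≠ x := fun e => hne (sq_eq_one_odd hodd hh
    (hr.semireg hR (mul_mem hh hh) hxR (by rw [Perm.mul_apply, e])))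
  have : ({x, h x, h (h x)} : Finset α).card = 3 := by
    simp [e1.symm, e2.symm, e3.symm]
  have h3 := Finset.card_le_card (show ({x, h x, h (h x)} : Finset α) ⊆ _ from by
    simp only [Finset.insert_subset_iff, Finset.singleton_subset_iff]
    exact ⟨hx, htx _ hx, htx _ (htx _ hx)⟩)
  omega

/-- If one transposition lift inverts, conjugation acts through the sign. -/
theorem Reduced.conj_sign (hr : Reduced G m) (hR : R.card = m) {a b : α} (ha : a ∈ R) (hb : b ∈ R)
    (hab : a ≠ b) {t : Perm α} (ht : t ∈ G) (hta : Agree R t (swap a b)) (h2 : t * t = 1)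
    (hinv : ∀ h ∈ fixp G R, t * h * t = h⁻¹) :
    (∀ h ∈ fixp G R, ∀ k ∈ fixp G R, h * k = k * h) ∧
    ∀ σ : Perm α, σ.support ⊆ R → ∀ g ∈ G, Agree R g σ → ∀ h ∈ fixp G R,
      g * h * g⁻¹ = if Perm.sign σ = 1 then h else h⁻¹ := by
  have hl : ∀ σ : Perm α, Induces G R σ := exists_lift hr.trans hr.lt.le hR.le
  have htt : ∀ z, t * (t * z) = z := fun z => by rw [← mul_assoc, h2, one_mul]
  have hcomm : ∀ h ∈ fixp G R, ∀ k ∈ fixp G R, h * k = k * h := by
    intro h hh k hk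
    have e1 := hinv _ (mul_mem hh hk)
    have e2 : t * (h * k) * t = (t * h * t) * (t * k * t) := by simp only [mul_assoc, htt]
    rw [e2, hinv h hh, hinv k hk, ← mul_inv_rev, inv_inj] at e1
    exact e1.symm
  refine ⟨hcomm, fun σ hσ => ?_⟩
  refine supported_induction (R := R) (P := fun σ => ∀ g ∈ G, Agree R g σ → ∀ h ∈ fixp G R,
      g * h * g⁻¹ = if Perm.sign σ = 1 then h else h⁻¹) ?_ ?_ hσ
  · intro g hg hga h hh
    simp only [map_one, if_true]
    have hgR : g ∈ fixp G R := mem_fixp.mpr ⟨hg, fun x hx => by simpa using hga x hx⟩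
    rw [hcomm g hgR h hh, mul_inv_cancel_right]
  · intro a' ha' b' hb' hab' τ hτ ih g hg hga h hh
    obtain ⟨π, hπ, hπa, hπb⟩ := exists_pair_perm ha hb ha' hb' hab hab'
    obtain ⟨w, hw, hwa⟩ := hl π
    obtain ⟨v, hv, hva⟩ := hl τ
    have hu : w * t * w⁻¹ ∈ G := mul_mem (mul_mem hw ht) (inv_mem hw)
    have hua : Agree R (w * t * w⁻¹) (swap a' b') := by
      have h1 : π * swap a b * π⁻¹ = swap a' b' := by rw [← hπa, ← hπb, swap_apply_apply]
      exact h1 ▸ Agree.conj (support_swap_subset ha hb) hπ hta hwa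
    have hk : (w * t * w⁻¹ * v)⁻¹ * g ∈ fixp G R :=
      inv_mul_mem_fixp (mul_mem hu hv) hg (hua.mul hτ hva) hga
    obtain ⟨k, hk', hgk⟩ : ∃ k ∈ fixp G R, g = w * t * w⁻¹ * v * k :=
      ⟨_, hk, by rw [mul_inv_cancel_left]⟩
    have hswap : ∀ q ∈ fixp G R, w * t * w⁻¹ * q * (w * t * w⁻¹)⁻¹ = q⁻¹ := by
      intro q hq
      have hq' : w⁻¹ * q * w ∈ fixp G R := by
        simpa using conj_mem_fixp (g := w⁻¹) (by rwa [Perm.support_inv]) (inv_mem hw) (hwa.inv hπ) hq
      have hti : t⁻¹ = t := inv_eq_of_mul_eq_one_right h2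
      calc w * t * w⁻¹ * q * (w * t * w⁻¹)⁻¹ = w * (t * (w⁻¹ * q * w) * t⁻¹) * w⁻¹ := by group
        _ = w * (w⁻¹ * q * w)⁻¹ * w⁻¹ := by rw [hti, hinv _ hq']
        _ = q⁻¹ := by group
    have e : g * h * g⁻¹ = w * t * w⁻¹ * (v * h * v⁻¹) * (w * t * w⁻¹)⁻¹ := by
      rw [hgk, show k = k from rfl]
      calc w * t * w⁻¹ * v * k * h * (w * t * w⁻¹ * v * k)⁻¹
          = w * t * w⁻¹ * (v * (k * h * k⁻¹) * v⁻¹) * (w * t * w⁻¹)⁻¹ := by group
        _ = _ := by rw [hcomm k hk' h hh, mul_inv_cancel_right]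
    rw [e, ih v hv hva h hh, map_mul, Perm.sign_swap hab']
    rcases Int.units_eq_one_or (Perm.sign τ) with hs | hs
    · simp [hs]; simpa using hswap h hh
    · simp [hs]; simpa using hswap h⁻¹ (inv_mem hh)

/-- `y` represents an orbit fixed by the lifts of the transposition `(a b)`. -/
def SOrb (G : Subgroup (Perm α)) (R : Finset α) (a b y : α) : Prop :=
  y ∉ R ∧ ∀ g ∈ G, Agree R g (swap a b) → Orb G R (g y) y

theorem SOrb.symm {a b y : α} (h : SOrb G R a b y) : SOrb G R b a y :=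
  ⟨h.1, fun g hg ha => h.2 g hg (by rwa [swap_comm a b])⟩

theorem SOrb.transport {a b y : α} (ha : a ∈ R) (hb : b ∈ R) (h : SOrb G R a b y) {u π : Perm α}
    (hπ : π.support ⊆ R) (hu : u ∈ G) (hua : Agree R u π) : SOrb G R (π a) (π b) (u y) := by
  refine ⟨hua.not_mem hπ h.1, fun g hg hga => ?_⟩
  have e1 := Agree.conj (support_swap_subset (apply_mem hπ ha) (apply_mem hπ hb))
    (by rwa [Perm.support_inv]) hga (hua.inv hπ)
  rw [← swap_apply_apply, Perm.inv_def π, Equiv.symm_apply_apply, Equiv.symm_apply_apply] at e1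
  have e2 := (h.2 _ (mul_mem (mul_mem (inv_mem hu) hg) (inv_mem (inv_mem hu))) e1).map hπ hu hua
  simpa [Perm.mul_apply] using e2

variable (hN : Odd Rᶜ.card) (hodd : Odd (Nat.card (fixp G R)))

include hN hodd

theorem Reduced.swap_invol (hr : Reduced G m) (hR : R.card = m) {a b : α} (ha : a ∈ R) (hb : b ∈ R)
    (hab : a ≠ b) : ∃ t ∈ G, Agree R t (swap a b) ∧ t * t = 1 ∧
      ∃ y, y ∉ R ∧ t y = y ∧ ∀ z, z ∉ R → t z = z → z = y := by
  obtain ⟨g, hg, hga⟩ := exists_lift hr.trans hr.lt.le hR.le (swap a b)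
  obtain ⟨j, -, h2, hta⟩ :=
    exists_invol_lift hodd (support_swap_subset ha hb) (Equiv.swap_mul_self a b) hg hga
  have hpar := card_fix_outside_parity h2 (support_swap_subset ha hb) hta
  have hle := hr.fix_swap_le hR ha hb hab (pow_mem hg j) hta
  rw [Nat.odd_iff.mp hN] at hpar
  obtain ⟨y, hy⟩ := Finset.card_eq_one.mp (show (Rᶜ.filter fun x => (g ^ j) x = x).card = 1 by omega)
  obtain ⟨hy1, hy2⟩ := Finset.mem_filter.mp (hy ▸ Finset.mem_singleton_self y)
  refine ⟨_, pow_mem hg j, hta, h2, y, Finset.mem_compl.mp hy1, hy2, fun z hz hz' => ?_⟩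
  exact Finset.mem_singleton.mp (hy ▸ Finset.mem_filter.mpr ⟨Finset.mem_compl.mpr hz, hz'⟩)

theorem Reduced.conj_sign' (hr : Reduced G m) (hR : R.card = m) (hm : 2 ≤ m) :
    (∀ h ∈ fixp G R, ∀ k ∈ fixp G R, h * k = k * h) ∧
    ∀ σ : Perm α, σ.support ⊆ R → ∀ g ∈ G, Agree R g σ → ∀ h ∈ fixp G R,
      g * h * g⁻¹ = if Perm.sign σ = 1 then h else h⁻¹ := by
  obtain ⟨a, ha, b, hb, hab⟩ := Finset.one_lt_card.mp (show 1 < R.card by omega)
  obtain ⟨t, ht, hta, h2, y, hyR, hty, -⟩ := hr.swap_invol hN hodd hR ha hb hab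
  exact hr.conj_sign hR ha hb hab ht hta h2 (hr.inverts hR hodd (support_swap_subset ha hb) ht hta h2
    (Finset.mem_filter.mpr ⟨Finset.mem_compl.mpr hyR, hty⟩) (hr.fix_swap_le hR ha hb hab ht hta))

theorem Reduced.sorb_exists (hr : Reduced G m) (hR : R.card = m) {a b : α} (ha : a ∈ R) (hb : b ∈ R)
    (hab : a ≠ b) : ∃ y, SOrb G R a b y := by
  obtain ⟨t, ht, hta, -, y, hyR, hty, -⟩ := hr.swap_invol hN hodd hR ha hb hab
  refine ⟨y, hyR, fun g hg hga => ?_⟩
  have := orb_of_agree (support_swap_subset ha hb) hg ht hga hta y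
  rwa [hty] at this

theorem Reduced.sorb_fixing (hr : Reduced G m) (hR : R.card = m) {a b y : α} (ha : a ∈ R) (hb : b ∈ R)
    (hab : a ≠ b) (hy : SOrb G R a b y) : ∃ t ∈ G, Agree R t (swap a b) ∧ t * t = 1 ∧ t y = y ∧
      ∀ z, z ∉ R → t z = z → z = y := by
  obtain ⟨g, hg, hga⟩ := exists_lift hr.trans hr.lt.le hR.le (swap a b)
  obtain ⟨k, hk, hky⟩ := hy.2 g hg hga
  have hta := fixp_agree_mul (support_swap_subset ha hb) hga hk
  have htG : k * g ∈ G := mul_mem (mem_fixp.mp hk).1 hg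
  have hty : (k * g) y = y := hky
  have h2 : (k * g) * (k * g) = 1 := by
    refine hr.semireg hR (mem_fixp.mpr ⟨mul_mem htG htG, fun x hx => ?_⟩) hy.1 ?_
    · rw [hta.mul (support_swap_subset ha hb) hta x hx, swap_mul_self, Perm.one_apply]
    · rw [Perm.mul_apply, hty, hty]
  refine ⟨_, htG, hta, h2, hty, fun z hz hz' => ?_⟩
  have hpar := card_fix_outside_parity h2 (support_swap_subset ha hb) hta
  have hle := hr.fix_swap_le hR ha hb hab htG hta
  rw [Nat.odd_iff.mp hN] at hpar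
  obtain ⟨w, hw⟩ := Finset.card_eq_one.mp (show (Rᶜ.filter fun x => (k * g) x = x).card = 1 by omega)
  have e1 : z ∈ Rᶜ.filter fun x => (k * g) x = x :=
    Finset.mem_filter.mpr ⟨Finset.mem_compl.mpr hz, hz'⟩
  have e2 : y ∈ Rᶜ.filter fun x => (k * g) x = x :=
    Finset.mem_filter.mpr ⟨Finset.mem_compl.mpr hy.1, hty⟩
  rw [hw, Finset.mem_singleton] at e1 e2
  rw [e1, e2]

theorem Reduced.sorb_unique (hr : Reduced G m) (hR : R.card = m) {a b y y' : α} (ha : a ∈ R)
    (hb : b ∈ R) (hab : a ≠ b) (hy : SOrb G R a b y) (hy' : SOrb G R a b y') : Orb G R y y' := by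
  obtain ⟨t, ht, hta, h2, hty, huniq⟩ := hr.sorb_fixing hN hodd hR ha hb hab hy
  have hm : 2 ≤ m := hR ▸ Finset.one_lt_card.mpr ⟨a, ha, b, hb, hab⟩
  obtain ⟨hcomm, hsgn⟩ := hr.conj_sign' hN hodd hR hm
  obtain ⟨h, hh, hhy⟩ := (hy'.2 t ht hta).symm
  obtain ⟨k, hk, hkk⟩ := exists_sqrt_odd hodd hh
  have hk' := hsgn _ (support_swap_subset ha hb) t ht hta k hk
  rw [Perm.sign_swap hab, if_neg (by decide)] at hk'
  have hfix : t (k y') = k y' := by
    calc t (k y') = (t * k * t⁻¹) (t y') := by simp [Perm.mul_apply]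
      _ = k⁻¹ (h y') := by rw [hk', hhy]
      _ = k y' := by rw [← hkk, Perm.mul_apply, Perm.inv_def, Equiv.symm_apply_apply]
  have hkR : k y' ∉ R :=
    (show Agree R k 1 from fun z hz => by simp [(mem_fixp.mp hk).2 z hz]).not_mem (by simp) hy'.1
  exact Orb.symm ⟨k, hk, huniq _ hkR hfix⟩

theorem Reduced.sorb_disjoint (hr : Reduced G m) (hR : R.card = m) {a b c d y z : α} (ha : a ∈ R)
    (hb : b ∈ R) (hc : c ∈ R) (hd : d ∈ R) (hab : a ≠ b) (hcd : c ≠ d) (hac : a ≠ c) (had : a ≠ d)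
    (hbc : b ≠ c) (hbd : b ≠ d) (hy : SOrb G R a b y) (hz : SOrb G R c d z) : Orb G R y z := by
  refine hr.sorb_unique hN hodd hR hc hd hcd ⟨hy.1, fun u hu hua => ?_⟩ hz
  have h1 := hy.transport ha hb (support_swap_subset hc hd) hu hua
  rw [swap_apply_of_ne_of_ne hac had, swap_apply_of_ne_of_ne hbc hbd] at h1
  exact hr.sorb_unique hN hodd hR ha hb hab h1 hy

end Cfsg.Agent.PermGp.LivWag
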